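import Mathlib

-- merged: L34Table
section

/-!
# The degree tables of the central extensions of `L₃(4)` by `2`-groups: the integral part

`Tab d v s t σ τ X` collects the congruences and the Gram relations of the columns at the elements of order
`1, 3, 5, 7` of the characters over a linear character of the centre; `Tab.table` : the multiset of the degrees
is one of four.
-/

set_option autoImplicit false

namespace Cfsg.Agent.H407.TI

/-- the possible degrees -/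
def DD : Finset ℕ := {1, 7, 8, 10, 18, 20, 28, 35, 36, 45, 56, 63, 64, 70, 80, 90, 126}

/-- the integral data of the columns -/
structure Tab {ι : Type*} (X : Finset ι) (d : ι → ℕ) (v s t σ τ : ι → ℤ) : Prop where
  dvd : ∀ i ∈ X, d i ∣ 20160
  h9 : ∀ i ∈ X, (9 : ℤ) ∣ d i - v i
  h5 : ∀ i ∈ X, (5 : ℤ) ∣ d i - (s i + 2 * t i)
  h7 : ∀ i ∈ X, (7 : ℤ) ∣ d i - (σ i + 3 * τ i)
  dd : ∑ i ∈ X, (d i : ℤ) * d i = 20160
  vv : ∑ i ∈ X, v i * v i = 9
  dv : ∑ i ∈ X, (d i : ℤ) * v i = 0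
  ss : ∑ i ∈ X, s i * s i = 3
  st : ∑ i ∈ X, s i * t i = 1
  tt : ∑ i ∈ X, t i * t i = 2
  ds : ∑ i ∈ X, (d i : ℤ) * s i = 0
  dt : ∑ i ∈ X, (d i : ℤ) * t i = 0
  SS : ∑ i ∈ X, σ i * σ i = 4
  ST : ∑ i ∈ X, σ i * τ i = 1
  TT : ∑ i ∈ X, τ i * τ i = 2
  dS : ∑ i ∈ X, (d i : ℤ) * σ i = 0
  dT : ∑ i ∈ X, (d i : ℤ) * τ i = 0

section

variable {ι : Type*} {X : Finset ι} {d : ι → ℕ} {v s t σ τ : ι → ℤ}

/-- a bound for a member of a sum of non-negative terms -/
theorem le_of_sum {f : ι → ℤ} (hf : ∀ i ∈ X, 0 ≤ f i) {c : ℤ} (h : ∑ i ∈ X, f i = c) {i : ι} (hi : i ∈ X) :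
    f i ≤ c := h ▸ Finset.single_le_sum hf hi

/-- the value of a quadratic form -/
theorem quad {a b : ι → ℤ} {A B C : ℤ} (hA : ∑ i ∈ X, a i * a i = A) (hB : ∑ i ∈ X, a i * b i = B)
    (hC : ∑ i ∈ X, b i * b i = C) (x y : ℤ) {i : ι} (hi : i ∈ X) :
    (x * a i + y * b i) * (x * a i + y * b i) ≤ x * x * A + 2 * x * y * B + y * y * C := by
  refine le_of_sum (f := fun i => (x * a i + y * b i) * (x * a i + y * b i)) (fun i _ => mul_self_nonneg _) ?_ hi
  rw [← hA, ← hB, ← hC, Finset.mul_sum, Finset.mul_sum, Finset.mul_sum, ← Finset.sum_add_distrib,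
    ← Finset.sum_add_distrib]
  exact Finset.sum_congr rfl fun i _ => by ring

/-- small squares -/
theorem abs_of_sq {x : ℤ} {n : ℕ} (h : x * x ≤ n * n + 2 * n) : -n ≤ x ∧ x ≤ n := by
  constructor <;> by_contra hc
  · nlinarith
  · nlinarith

theorem Tab.v_mem (T : Tab X d v s t σ τ) {i : ι} (hi : i ∈ X) :
    v i = 0 ∨ v i = 1 ∨ v i = -1 ∨ v i = 2 ∨ v i = -2 := by
  have h1 := le_of_sum (f := fun i => v i * v i) (fun i _ => mul_self_nonneg _) T.vv hi
  have h2 : -3 ≤ v i ∧ v i ≤ 3 := by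
    have : v i * v i ≤ ((3 : ℕ) : ℤ) * (3 : ℕ) + 2 * (3 : ℕ) := by push_cast; linarith [show v i * v i ≤ 9 from h1]
    exact_mod_cast abs_of_sq this
  have h3 : v i * v i ≠ 9 := by
    intro h9
    classical
    have h4 : ∀ j ∈ X, j ≠ i → v j = 0 := by
      intro j hj hne
      have h5 := T.vv
      rw [← Finset.add_sum_erase X _ hi, h9] at h5
      have h6 : v j * v j ≤ ∑ x ∈ X.erase i, v x * v x :=
        Finset.single_le_sum (f := fun x => v x * v x) (fun _ _ => mul_self_nonneg _)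
          (Finset.mem_erase.2 ⟨hne, hj⟩)
      have h7 : v j * v j ≤ 0 := by linarith
      exact mul_self_eq_zero.1 (le_antisymm h7 (mul_self_nonneg _))
    have h5 := T.dv
    rw [Finset.sum_eq_single i (fun j hj hne => by rw [h4 j hj hne, mul_zero])
      (fun h => absurd hi h)] at h5
    rcases mul_eq_zero.1 h5 with h5 | h5
    · have h6 := T.dvd i hi
      rw [Nat.cast_eq_zero.1 h5] at h6
      omega
    · rw [h5] at h9; omega
  obtain ⟨h5, h6⟩ := h2
  generalize v i = w at h1 h3 h5 h6 ⊢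
  interval_cases w <;> simp_all

theorem Tab.st_mem (T : Tab X d v s t σ τ) {i : ι} (hi : i ∈ X) :
    (s i, t i) ∈ ({(0, 0), (1, 0), (-1, 0), (0, 1), (0, -1), (1, 1), (-1, -1)} : Finset (ℤ × ℤ)) := by
  have h1 := quad T.ss T.st T.tt 1 0 hi
  have h2 := quad T.ss T.st T.tt 0 1 hi
  have h3 := quad T.ss T.st T.tt 1 (-1) hi
  have h4 : -1 ≤ s i ∧ s i ≤ 1 := by
    have : s i * s i ≤ ((1 : ℕ) : ℤ) * (1 : ℕ) + 2 * (1 : ℕ) := by push_cast; linarith
    exact_mod_cast abs_of_sq this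
  have h5 : -1 ≤ t i ∧ t i ≤ 1 := by
    have : t i * t i ≤ ((1 : ℕ) : ℤ) * (1 : ℕ) + 2 * (1 : ℕ) := by push_cast; linarith
    exact_mod_cast abs_of_sq this
  obtain ⟨h6, h7⟩ := h4
  obtain ⟨h8, h9⟩ := h5
  generalize s i = a at *
  generalize t i = b at *
  interval_cases a <;> interval_cases b <;> revert h3 <;> decide

theorem Tab.ST_mem (T : Tab X d v s t σ τ) {i : ι} (hi : i ∈ X) :
    (σ i, τ i) ∈ ({(0, 0), (1, 0), (-1, 0), (0, 1), (0, -1), (1, 1), (-1, -1)} : Finset (ℤ × ℤ)) := by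
  have h1 := quad T.SS T.ST T.TT 1 0 hi
  have h2 := quad T.SS T.ST T.TT 0 1 hi
  have h3 := quad T.SS T.ST T.TT 1 (-1) hi
  have h3' := quad T.SS T.ST T.TT 1 (-2) hi
  have h3'' := quad T.SS T.ST T.TT 2 (-1) hi
  have h3''' := quad T.SS T.ST T.TT 1 1 hi
  have h4 : -2 ≤ σ i ∧ σ i ≤ 2 := by
    have : σ i * σ i ≤ ((2 : ℕ) : ℤ) * (2 : ℕ) + 2 * (2 : ℕ) := by push_cast; linarith
    exact_mod_cast abs_of_sq this
  have h5 : -1 ≤ τ i ∧ τ i ≤ 1 := by
    have : τ i * τ i ≤ ((1 : ℕ) : ℤ) * (1 : ℕ) + 2 * (1 : ℕ) := by push_cast; linarith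
    exact_mod_cast abs_of_sq this
  obtain ⟨h6, h7⟩ := h4
  obtain ⟨h8, h9⟩ := h5
  generalize σ i = a at *
  generalize τ i = b at *
  interval_cases a <;> interval_cases b <;> revert h3 h3' h3'' h3''' <;> decide

theorem Tab.le (T : Tab X d v s t σ τ) {i : ι} (hi : i ∈ X) : d i ≤ 141 := by
  have h1 : (d i : ℤ) * d i ≤ 20160 :=
    le_of_sum (f := fun i => (d i : ℤ) * d i) (fun i _ => mul_self_nonneg _) T.dd hi
  by_contra h
  have h2 : (142 : ℤ) ≤ d i := by exact_mod_cast Nat.succ_le_of_lt (not_le.1 h)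
  nlinarith

theorem dd_aux : ∀ k < 142, k ∣ 20160 → (k % 9 = 0 ∨ k % 9 = 1 ∨ k % 9 = 8 ∨ k % 9 = 2 ∨ k % 9 = 7) →
    (k % 7 = 0 ∨ k % 7 = 1 ∨ k % 7 = 6 ∨ k % 7 = 3 ∨ k % 7 = 4) → k ∈ DD := by
  intro k hk h1 h2 h3
  have h4 : k ∈ (Finset.range 142).filter (fun k => k ∣ 20160 ∧
    (k % 9 = 0 ∨ k % 9 = 1 ∨ k % 9 = 8 ∨ k % 9 = 2 ∨ k % 9 = 7) ∧
    (k % 7 = 0 ∨ k % 7 = 1 ∨ k % 7 = 6 ∨ k % 7 = 3 ∨ k % 7 = 4)) :=
    Finset.mem_filter.2 ⟨Finset.mem_range.2 hk, h1, h2, h3⟩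
  have h5 : (Finset.range 142).filter (fun k => k ∣ 20160 ∧
    (k % 9 = 0 ∨ k % 9 = 1 ∨ k % 9 = 8 ∨ k % 9 = 2 ∨ k % 9 = 7) ∧
    (k % 7 = 0 ∨ k % 7 = 1 ∨ k % 7 = 6 ∨ k % 7 = 3 ∨ k % 7 = 4)) = DD := by decide +kernel
  exact h5 ▸ h4

theorem Tab.mem_DD (T : Tab X d v s t σ τ) {i : ι} (hi : i ∈ X) : d i ∈ DD := by
  refine dd_aux _ (Nat.lt_succ_of_le (T.le hi)) (T.dvd i hi) ?_ ?_
  · have h1 := T.h9 i hi
    rcases T.v_mem hi with h | h | h | h | h <;> rw [h] at h1 <;> omega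
  · have h1 := T.h7 i hi
    have h2 := T.ST_mem hi
    simp only [Finset.mem_insert, Finset.mem_singleton, Prod.mk.injEq] at h2
    rcases h2 with ⟨h2, h3⟩ | ⟨h2, h3⟩ | ⟨h2, h3⟩ | ⟨h2, h3⟩ | ⟨h2, h3⟩ | ⟨h2, h3⟩ | ⟨h2, h3⟩ <;>
      rw [h2, h3] at h1 <;> omega

/-- the number of members of degree `k` -/
noncomputable def cnt (X : Finset ι) (d : ι → ℕ) (k : ℕ) : ℕ := by
  classical exact (X.filter fun i => d i = k).card

theorem sum_deg (hD : ∀ i ∈ X, d i ∈ DD) (g : ℕ → ℤ) :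
    ∑ i ∈ X, g (d i) = ∑ k ∈ DD, (cnt X d k : ℤ) * g k := by
  classical
  rw [← Finset.sum_fiberwise_of_maps_to hD]
  refine Finset.sum_congr rfl fun k _ => ?_
  rw [Finset.sum_congr rfl (fun i hi => by rw [(Finset.mem_filter.1 hi).2] :
    ∀ i ∈ X.filter (fun i => d i = k), g (d i) = g k), Finset.sum_const, nsmul_eq_mul, cnt]

/-- the sign of a degree prime to the first order of the block -/
def sg (m k : ℕ) : ℤ := if k % m = 1 then 1 else if k % m = m - 1 then -1 else 0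

/-- two exceptional members -/
theorem exc_pair {a b : ι → ℤ} (ha : ∀ i ∈ X, (a i, b i) ∈
      ({(0, 0), (1, 0), (-1, 0), (0, 1), (0, -1), (1, 1), (-1, -1)} : Finset (ℤ × ℤ)))
    (hpos : ∀ i ∈ X, 0 < d i) (hB : ∑ i ∈ X, a i * b i = 1)
    (hC : ∑ i ∈ X, b i * b i = 2) (h2 : ∑ i ∈ X, (d i : ℤ) * b i = 0) :
    ∃ e ∈ X, ∃ f ∈ X, e ≠ f ∧ d e = d f ∧ b f = - b e ∧ a e = b e ∧ a f = 0 ∧ b e ≠ 0 ∧
      (∀ i ∈ X, i ≠ e → i ≠ f → b i = 0) ∧
      (∀ g : ι → ℤ, ∑ i ∈ X, g i = g e + g f + ∑ i ∈ X with b i = 0, g i) := by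
  classical
  have hone : ∀ i ∈ X, b i ≠ 0 → b i * b i = 1 := by
    intro i hi hb
    have h3 := ha i hi
    simp only [Finset.mem_insert, Finset.mem_singleton, Prod.mk.injEq] at h3
    rcases h3 with ⟨-, h3⟩ | ⟨-, h3⟩ | ⟨-, h3⟩ | ⟨-, h3⟩ | ⟨-, h3⟩ | ⟨-, h3⟩ | ⟨-, h3⟩ <;>
      first | exact absurd h3 hb | rw [h3]; norm_num
  have hcard : (X.filter fun i => b i ≠ 0).card = 2 := by
    have h3 := hC
    rw [← Finset.sum_filter_add_sum_filter_not X (fun i => b i ≠ 0),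
      Finset.sum_congr rfl (fun i hi => hone i (Finset.mem_filter.1 hi).1 (Finset.mem_filter.1 hi).2),
      Finset.sum_congr rfl (fun i hi => by
        rw [not_not.1 (Finset.mem_filter.1 hi).2, mul_zero] :
        ∀ i ∈ X.filter (fun i => ¬ b i ≠ 0), b i * b i = 0), Finset.sum_const_zero, add_zero,
      Finset.sum_const, nsmul_eq_mul, mul_one] at h3
    exact_mod_cast h3
  have key : ∀ e f : ι, e ≠ f → (X.filter fun i => b i ≠ 0) = {e, f} → a e ≠ 0 →
      e ∈ X ∧ f ∈ X ∧ d e = d f ∧ b f = - b e ∧ a e = b e ∧ a f = 0 ∧ b e ≠ 0 ∧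
      (∀ i ∈ X, i ≠ e → i ≠ f → b i = 0) ∧
      (∀ g : ι → ℤ, ∑ i ∈ X, g i = g e + g f + ∑ i ∈ X with b i = 0, g i) := by
    intro e f hne hef hae
    have he : e ∈ X.filter fun i => b i ≠ 0 := by rw [hef]; simp
    have hf : f ∈ X.filter fun i => b i ≠ 0 := by rw [hef]; simp
    obtain ⟨heX, hbe⟩ := Finset.mem_filter.1 he
    obtain ⟨hfX, hbf⟩ := Finset.mem_filter.1 hf
    have hoth : ∀ i ∈ X, i ≠ e → i ≠ f → b i = 0 := by
      intro i hi h3 h4
      by_contra h5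
      have h6 : i ∈ X.filter fun i => b i ≠ 0 := Finset.mem_filter.2 ⟨hi, h5⟩
      rw [hef] at h6
      simp only [Finset.mem_insert, Finset.mem_singleton] at h6
      tauto
    have hsum : ∀ g : ι → ℤ, ∑ i ∈ X, g i = g e + g f + ∑ i ∈ X with b i = 0, g i := by
      intro g
      rw [← Finset.sum_filter_add_sum_filter_not X (fun i => b i ≠ 0), hef, Finset.sum_pair hne]
      congr 1
      refine Finset.sum_congr ?_ fun _ _ => rfl
      ext i
      simp
    have hz1 : ∑ i ∈ X with b i = 0, (d i : ℤ) * b i = 0 :=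
      Finset.sum_eq_zero fun i hi => by rw [(Finset.mem_filter.1 hi).2, mul_zero]
    have hz2 : ∑ i ∈ X with b i = 0, a i * b i = 0 :=
      Finset.sum_eq_zero fun i hi => by rw [(Finset.mem_filter.1 hi).2, mul_zero]
    have h3 := hsum fun i => (d i : ℤ) * b i
    rw [h2, hz1] at h3
    have h4 := hsum fun i => a i * b i
    rw [hB, hz2] at h4
    have hde : (0 : ℤ) < d e := by exact_mod_cast hpos e heX
    have hdf : (0 : ℤ) < d f := by exact_mod_cast hpos f hfX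
    have h5 := ha e heX
    have h6 := ha f hfX
    simp only [Finset.mem_insert, Finset.mem_singleton, Prod.mk.injEq] at h5 h6
    have hfin : d e = d f ∧ b f = - b e ∧ a e = b e ∧ a f = 0 := by
      rcases h5 with ⟨h5, h5'⟩ | ⟨h5, h5'⟩ | ⟨h5, h5'⟩ | ⟨h5, h5'⟩ | ⟨h5, h5'⟩ | ⟨h5, h5'⟩ | ⟨h5, h5'⟩ <;>
      rcases h6 with ⟨h6, h6'⟩ | ⟨h6, h6'⟩ | ⟨h6, h6'⟩ | ⟨h6, h6'⟩ | ⟨h6, h6'⟩ | ⟨h6, h6'⟩ | ⟨h6, h6'⟩ <;>
      first
        | exact absurd h5 hae
        | exact absurd h5' hbe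
        | exact absurd h6' hbf
        | (exfalso; rw [h5, h5', h6, h6'] at h4; revert h4; norm_num; done)
        | (exfalso; rw [h5', h6'] at h3; linarith)
        | (rw [h5, h5', h6, h6']; rw [h5', h6'] at h3
           exact ⟨by have : (d e : ℤ) = d f := by linarith
                     exact_mod_cast this, by norm_num, rfl, rfl⟩)
    exact ⟨heX, hfX, hfin.1, hfin.2.1, hfin.2.2.1, hfin.2.2.2, hbe, hoth, hsum⟩
  obtain ⟨e, f, hne, hef⟩ := Finset.card_eq_two.1 hcard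
  by_cases hae : a e = 0
  · have haf : a f ≠ 0 := by
      intro haf
      have : ∑ i ∈ X, a i * b i = 0 := by
        refine Finset.sum_eq_zero fun i hi => ?_
        by_cases hb : b i = 0
        · rw [hb, mul_zero]
        · have h6 : i ∈ X.filter fun i => b i ≠ 0 := Finset.mem_filter.2 ⟨hi, hb⟩
          rw [hef] at h6
          simp only [Finset.mem_insert, Finset.mem_singleton] at h6
          rcases h6 with rfl | rfl
          · rw [hae, zero_mul]
          · rw [haf, zero_mul]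
      rw [this] at hB
      exact absurd hB (by norm_num)
    obtain ⟨h3, h4, h5⟩ := key f e hne.symm (by rw [hef]; exact Finset.pair_comm e f) haf
    exact ⟨f, h3, e, h4, hne.symm, h5⟩
  · obtain ⟨h3, h4, h5⟩ := key e f hne hef hae
    exact ⟨e, h3, f, h4, hne, h5⟩

theorem Tab.pos (T : Tab X d v s t σ τ) {i : ι} (hi : i ∈ X) : 0 < d i :=
  Nat.pos_of_dvd_of_pos (T.dvd i hi) (by norm_num)

/-- the five relations of a block of defect one -/
theorem block {m c : ℕ} {a b : ι → ℤ} {A : ℤ} (hc : c = 2 ∧ m = 5 ∨ c = 3 ∧ m = 7)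
    (ha : ∀ i ∈ X, (a i, b i) ∈
      ({(0, 0), (1, 0), (-1, 0), (0, 1), (0, -1), (1, 1), (-1, -1)} : Finset (ℤ × ℤ)))
    (hdvd : ∀ i ∈ X, (m : ℤ) ∣ d i - (a i + (c : ℤ) * b i))
    (hpos : ∀ i ∈ X, 0 < d i) (hA : ∑ i ∈ X, a i * a i = A) (hB : ∑ i ∈ X, a i * b i = 1)
    (hC : ∑ i ∈ X, b i * b i = 2) (h1 : ∑ i ∈ X, (d i : ℤ) * a i = 0) (h2 : ∑ i ∈ X, (d i : ℤ) * b i = 0)
    (hD : ∀ i ∈ X, d i ∈ DD) :
    ∃ D ∈ DD, (D % m = c ∨ D % m = m - c) ∧
      (∀ k : ℕ, (k % m = c ∨ k % m = m - c) → cnt X d k = if k = D then 2 else 0) ∧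
      (∑ k ∈ DD, (cnt X d k : ℤ) * (sg m k * sg m k) = A - 1) ∧
      (∑ k ∈ DD, (cnt X d k : ℤ) * (k * sg m k) = if D % m = c then (D : ℤ) else -D) := by
  classical
  obtain ⟨e, he, f, hf, hne, hdef, hbf, hae, haf, hbe, hoth, hsum⟩ := exc_pair ha hpos hB hC h2
  have hbe1 : b e = 1 ∨ b e = -1 := by
    have h3 := ha e he
    simp only [Finset.mem_insert, Finset.mem_singleton, Prod.mk.injEq] at h3
    omega
  have hbf1 : b f ≠ 0 := by rw [hbf]; exact neg_ne_zero.2 hbe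
  -- the residues of the members with `b = 0`
  have hres0 : ∀ i ∈ X, b i = 0 → a i = sg m (d i) ∧ ¬ (d i % m = c ∨ d i % m = m - c) := by
    intro i hi hb
    have h3 := ha i hi
    have h4 := hdvd i hi
    simp only [Finset.mem_insert, Finset.mem_singleton, Prod.mk.injEq] at h3
    have h5 : a i = 0 ∨ a i = 1 ∨ a i = -1 := by omega
    rw [hb] at h4
    unfold sg
    rcases hc with ⟨rfl, rfl⟩ | ⟨rfl, rfl⟩ <;> rcases h5 with h5 | h5 | h5 <;> rw [h5] at h4 ⊢ <;>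
      (constructor
       · split_ifs <;> first | rfl | (exfalso; omega)
       · omega)
  have hres : ∀ i ∈ X, b i ≠ 0 → sg m (d i) = 0 ∧ (d i % m = c ∨ d i % m = m - c) := by
    intro i hi hb
    have h3 := ha i hi
    have h4 := hdvd i hi
    simp only [Finset.mem_insert, Finset.mem_singleton, Prod.mk.injEq] at h3
    have h5 : (a i = 0 ∧ b i = 1) ∨ (a i = 0 ∧ b i = -1) ∨ (a i = 1 ∧ b i = 1) ∨ (a i = -1 ∧ b i = -1) := by
      omega
    unfold sg
    rcases hc with ⟨rfl, rfl⟩ | ⟨rfl, rfl⟩ <;> rcases h5 with ⟨h5, h6⟩ | ⟨h5, h6⟩ | ⟨h5, h6⟩ | ⟨h5, h6⟩ <;>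
      rw [h5, h6] at h4 <;>
      (constructor
       · rw [if_neg (by omega), if_neg (by omega)]
       · omega)
  have hE := hres e he hbe
  have hsq : ∑ i ∈ X with b i = 0, a i * a i = A - 1 := by
    have h3 := hsum fun i => a i * a i
    rw [hA, hae, haf] at h3
    rcases hbe1 with h | h <;> rw [h] at h3 <;> linarith
  have hlin : ∑ i ∈ X with b i = 0, (d i : ℤ) * a i = - (d e * a e) := by
    have h3 := hsum fun i => (d i : ℤ) * a i
    rw [h1, haf, mul_zero] at h3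
    linarith
  refine ⟨d e, hD e he, hE.2, ?_, ?_, ?_⟩
  · intro k hk
    unfold cnt
    split_ifs with h3
    · rw [show (X.filter fun i => d i = k) = {e, f} from ?_, Finset.card_pair hne]
      ext i
      simp only [Finset.mem_filter, Finset.mem_insert, Finset.mem_singleton]
      constructor
      · rintro ⟨hi, h4⟩
        by_contra h5
        push Not at h5
        have h6 := hoth i hi h5.1 h5.2
        exact (hres0 i hi h6).2 (h4 ▸ hk)
      · rintro (rfl | rfl)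
        · exact ⟨he, h3.symm⟩
        · exact ⟨hf, by rw [← hdef]; exact h3.symm⟩
    · rw [Finset.card_eq_zero, Finset.filter_eq_empty_iff]
      intro i hi h4
      by_cases h5 : i = e
      · exact h3 (by rw [← h4, h5])
      · by_cases h6 : i = f
        · exact h3 (by rw [← h4, h6, hdef])
        · exact (hres0 i hi (hoth i hi h5 h6)).2 (h4 ▸ hk)
  · rw [← sum_deg hD fun k => sg m k * sg m k, hsum, hE.1, (hres f hf hbf1).1, mul_zero, zero_add, zero_add,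
      ← hsq]
    refine Finset.sum_congr rfl fun i hi => ?_
    obtain ⟨hi, hb⟩ := Finset.mem_filter.1 hi
    rw [(hres0 i hi hb).1]
  · rw [← sum_deg hD fun k => (k : ℤ) * sg m k, hsum, hE.1, (hres f hf hbf1).1, mul_zero, mul_zero, zero_add,
      zero_add, Finset.sum_congr rfl (fun i hi => by
        obtain ⟨hi, hb⟩ := Finset.mem_filter.1 hi
        rw [← (hres0 i hi hb).1] : ∀ i ∈ X.filter (fun i => b i = 0),
          ((d i : ℕ) : ℤ) * sg m (d i) = (d i : ℤ) * a i), hlin]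
    have h3 := hdvd e he
    have h3' := hdvd f hf
    rw [hae] at h3 ⊢
    rcases hc with ⟨rfl, rfl⟩ | ⟨rfl, rfl⟩ <;> rcases hbe1 with h4 | h4 <;> rw [h4] at h3 ⊢ <;>
      split_ifs <;> omega

/-- the 5-block -/
theorem arith5 {D n1 n36 n56 n64 n126 : ℕ} (hD : D = 7 ∨ D = 8 ∨ D = 18 ∨ D = 28 ∨ D = 63)
    (hq : (n1 + n36 + n56 + n64 + n126 : ℤ) = 2)
    (hl : (n1 + 36 * n36 + 56 * n56 - 64 * n64 + 126 * n126 : ℤ) = if D % 5 = 2 then (D : ℤ) else -D) :
    n64 = 1 ∧ n126 = 0 ∧ ((D = 8 ∧ n1 = 0 ∧ n36 = 0 ∧ n56 = 1) ∨ (D = 28 ∧ n1 = 0 ∧ n36 = 1 ∧ n56 = 0) ∨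
      (D = 63 ∧ n1 = 1 ∧ n36 = 0 ∧ n56 = 0)) := by
  have h1 : n64 ≤ 2 := by omega
  have h2 : n126 ≤ 2 := by omega
  have h3 : n56 ≤ 2 := by omega
  rcases hD with rfl | rfl | rfl | rfl | rfl <;> norm_num at hl <;> interval_cases n64 <;>
    interval_cases n126 <;> interval_cases n56 <;> omega

/-- the arithmetic -/
theorem arith {D E n1 n7 n8 n10 n18 n20 n28 n35 n36 n45 n56 n63 n64 n70 n80 n90 n126 : ℕ}
    (hD : D = 7 ∨ D = 8 ∨ D = 18 ∨ D = 28 ∨ D = 63) (hE : E = 10 ∨ E = 18 ∨ E = 45 ∨ E = 80)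
    (e7 : n7 = if 7 = D then 2 else 0) (e8 : n8 = if 8 = D then 2 else 0) (e18 : n18 = if 18 = D then 2 else 0)
    (e28 : n28 = if 28 = D then 2 else 0) (e63 : n63 = if 63 = D then 2 else 0)
    (f10 : n10 = if 10 = E then 2 else 0) (f18 : n18 = if 18 = E then 2 else 0)
    (f45 : n45 = if 45 = E then 2 else 0) (f80 : n80 = if 80 = E then 2 else 0)
    (hq5 : (n1 + n36 + n56 + n64 + n126 : ℤ) = 2) (hq7 : (n1 + n8 + n36 + n64 + n20 + n90 : ℤ) = 3)
    (hl5 : (n1 + 36 * n36 + 56 * n56 - 64 * n64 + 126 * n126 : ℤ) = if D % 5 = 2 then (D : ℤ) else -D)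
    (hl7 : (n1 + 8 * n8 + 36 * n36 + 64 * n64 - 20 * n20 - 90 * n90 : ℤ) = if E % 7 = 3 then (E : ℤ) else -E)
    (hsq : (n1 + 49 * n7 + 64 * n8 + 100 * n10 + 324 * n18 + 400 * n20 + 784 * n28 + 1225 * n35 +
      1296 * n36 + 2025 * n45 + 3136 * n56 + 3969 * n63 + 4096 * n64 + 4900 * n70 + 6400 * n80 +
      8100 * n90 + 15876 * n126 : ℤ) = 20160)
    (hpar : 1 ≤ n1 ∨ (n1 = 0 ∧ n7 = 0 ∧ n35 = 0 ∧ n45 = 0 ∧ n63 = 0)) :
    (n1 = 0 ∧ n7 = 0 ∧ n8 = 2 ∧ n10 = 0 ∧ n18 = 0 ∧ n20 = 0 ∧ n28 = 0 ∧ n35 = 0 ∧ n36 = 0 ∧ n45 = 0 ∧ n56 = 1 ∧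
      n63 = 0 ∧ n64 = 1 ∧ n70 = 0 ∧ n80 = 2 ∧ n90 = 0 ∧ n126 = 0) ∨
    (n1 = 0 ∧ n7 = 0 ∧ n8 = 0 ∧ n10 = 0 ∧ n18 = 0 ∧ n20 = 1 ∧ n28 = 2 ∧ n35 = 0 ∧ n36 = 1 ∧ n45 = 0 ∧ n56 = 0 ∧
      n63 = 0 ∧ n64 = 1 ∧ n70 = 0 ∧ n80 = 2 ∧ n90 = 0 ∧ n126 = 0) ∨
    (n1 = 0 ∧ n7 = 0 ∧ n8 = 0 ∧ n10 = 2 ∧ n18 = 0 ∧ n20 = 0 ∧ n28 = 2 ∧ n35 = 0 ∧ n36 = 1 ∧ n45 = 0 ∧ n56 = 0 ∧
      n63 = 0 ∧ n64 = 1 ∧ n70 = 1 ∧ n80 = 0 ∧ n90 = 1 ∧ n126 = 0) ∨
    (n1 = 1 ∧ n7 = 0 ∧ n8 = 0 ∧ n10 = 0 ∧ n18 = 0 ∧ n20 = 1 ∧ n28 = 0 ∧ n35 = 3 ∧ n36 = 0 ∧ n45 = 2 ∧ n56 = 0 ∧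
      n63 = 2 ∧ n64 = 1 ∧ n70 = 0 ∧ n80 = 0 ∧ n90 = 0 ∧ n126 = 0) := by
  obtain ⟨h64, h126, h⟩ := arith5 hD hq5 hl5
  clear hq5 hl5 hD
  subst h64 h126
  rcases h with ⟨rfl, rfl, rfl, rfl⟩ | ⟨rfl, rfl, rfl, rfl⟩ | ⟨rfl, rfl, rfl, rfl⟩
  · simp only [Nat.reduceEqDiff, reduceIte] at e7 e8 e18 e28 e63
    subst e7 e8 e28 e63 e18
    rcases hE with rfl | rfl | rfl | rfl <;>
      simp only [Nat.reduceEqDiff, reduceIte] at f10 f18 f45 f80 <;>
      (try subst f10 f45 f80) <;> norm_num at hl7 hq7 hsq hpar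
    · exfalso; omega
    · left
      refine ⟨rfl, rfl, rfl, rfl, rfl, ?_, rfl, ?_, rfl, rfl, rfl, rfl, rfl, ?_, rfl, ?_, rfl⟩ <;> omega
  · simp only [Nat.reduceEqDiff, reduceIte] at e7 e8 e18 e28 e63
    subst e7 e8 e28 e63 e18
    rcases hE with rfl | rfl | rfl | rfl <;>
      simp only [Nat.reduceEqDiff, reduceIte] at f10 f18 f45 f80 <;>
      (try subst f10 f45 f80) <;> norm_num at hl7 hq7 hsq hpar
    · right; right; left
      have h20 : n20 = 0 := by omega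
      have h90 : n90 = 1 := by omega
      subst h20 h90
      norm_num at hsq
      refine ⟨rfl, rfl, rfl, rfl, rfl, ?_, rfl, ?_, rfl, rfl, rfl, rfl, rfl, ?_, rfl, ?_, rfl⟩ <;> omega
    · right; left
      have h20 : n20 = 1 := by omega
      have h90 : n90 = 0 := by omega
      subst h20 h90
      norm_num at hsq
      refine ⟨rfl, rfl, rfl, rfl, rfl, ?_, rfl, ?_, rfl, rfl, rfl, rfl, rfl, ?_, rfl, ?_, rfl⟩ <;> omega
  · simp only [Nat.reduceEqDiff, reduceIte] at e7 e8 e18 e28 e63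
    subst e7 e8 e28 e63 e18
    rcases hE with rfl | rfl | rfl | rfl <;>
      simp only [Nat.reduceEqDiff, reduceIte] at f10 f18 f45 f80 <;>
      (try subst f10 f45 f80) <;> norm_num at hl7 hq7 hsq hpar
    · exfalso; omega
    · right; right; right
      have h20 : n20 = 1 := by omega
      have h90 : n90 = 0 := by omega
      subst h20 h90
      norm_num at hsq
      have h70 : n70 = 0 := by omega
      subst h70
      refine ⟨rfl, rfl, rfl, rfl, rfl, ?_, rfl, ?_, rfl, rfl, rfl, rfl, rfl, ?_, rfl, ?_, rfl⟩ <;> omega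
    · exfalso; omega

/-- the four tables -/
def tabs : Finset (Multiset ℕ) :=
  {{1, 20, 35, 35, 35, 45, 45, 63, 63, 64}, {10, 10, 28, 28, 36, 64, 70, 90}, {8, 8, 56, 64, 80, 80},
    {20, 28, 28, 36, 64, 80, 80}}

/-- **The tables.** -/
theorem Tab.table (T : Tab X d v s t σ τ) (hpar : (∃ i ∈ X, d i = 1) ∨ ∀ i ∈ X, 2 ∣ d i) :
    X.val.map d ∈ tabs := by
  classical
  have hD : ∀ i ∈ X, d i ∈ DD := fun i hi => T.mem_DD hi
  have hpos : ∀ i ∈ X, 0 < d i := fun i hi => T.pos hi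
  obtain ⟨D, hD5, hm5, hc5, hq5, hl5⟩ := block (m := 5) (c := 2) (Or.inl ⟨rfl, rfl⟩) (fun i hi => T.st_mem hi)
    (fun i hi => by exact_mod_cast T.h5 i hi) hpos T.ss T.st T.tt T.ds T.dt hD
  obtain ⟨E, hD7, hm7, hc7, hq7, hl7⟩ := block (m := 7) (c := 3) (Or.inr ⟨rfl, rfl⟩) (fun i hi => T.ST_mem hi)
    (fun i hi => by exact_mod_cast T.h7 i hi) hpos T.SS T.ST T.TT T.dS T.dT hD
  have hsq := sum_deg hD fun k => (k : ℤ) * k
  rw [T.dd] at hsq
  have hcount : ∀ k, (X.val.map d).count k = cnt X d k := by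
    intro k
    rw [Multiset.count_map, cnt, Finset.card_def, Finset.filter_val]
    congr 1
    exact Multiset.filter_congr fun i _ => eq_comm
  have hpar' : 1 ≤ cnt X d 1 ∨ ∀ k, ¬ 2 ∣ k → cnt X d k = 0 := by
    rcases hpar with ⟨i, hi, h⟩ | h
    · left
      unfold cnt
      exact Finset.card_pos.2 ⟨i, Finset.mem_filter.2 ⟨hi, h⟩⟩
    · right
      intro k hk
      unfold cnt
      rw [Finset.card_eq_zero, Finset.filter_eq_empty_iff]
      rintro i hi rfl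
      exact hk (h i hi)
  have hnot : ∀ k, k ∉ DD → cnt X d k = 0 := by
    intro k hk
    unfold cnt
    rw [Finset.card_eq_zero, Finset.filter_eq_empty_iff]
    rintro i hi rfl
    exact hk (hD i hi)
  -- it is enough to know the counts
  have hfin : ∀ M : Multiset ℕ, (∀ k ∈ DD, cnt X d k = M.count k) → (∀ k ∈ M, k ∈ DD) → X.val.map d = M := by
    intro M h1 h2
    ext k
    rw [hcount]
    by_cases hk : k ∈ DD
    · exact h1 k hk
    · rw [hnot k hk, Multiset.count_eq_zero.2 fun h => hk (h2 k h)]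
  generalize cnt X d = n at *
  have e7 := hc5 7 (by decide)
  have e8 := hc5 8 (by decide)
  have e18 := hc5 18 (by decide)
  have e28 := hc5 28 (by decide)
  have e63 := hc5 63 (by decide)
  have f10 := hc7 10 (by decide)
  have f18 := hc7 18 (by decide)
  have f45 := hc7 45 (by decide)
  have f80 := hc7 80 (by decide)
  have hq5' : (n 1 + n 36 + n 56 + n 64 + n 126 : ℤ) = 2 := by
    have h := hq5
    simp [DD, sg] at h
    linarith
  have hq7' : (n 1 + n 8 + n 36 + n 64 + n 20 + n 90 : ℤ) = 3 := by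
    have h := hq7
    simp [DD, sg] at h
    linarith
  have hl5' : (n 1 + 36 * n 36 + 56 * n 56 - 64 * n 64 + 126 * n 126 : ℤ) = if D % 5 = 2 then (D : ℤ) else -D := by
    rw [← hl5]
    simp [DD, sg]
    ring
  have hl7' : (n 1 + 8 * n 8 + 36 * n 36 + 64 * n 64 - 20 * n 20 - 90 * n 90 : ℤ) =
      if E % 7 = 3 then (E : ℤ) else -E := by
    rw [← hl7]
    simp [DD, sg]
    ring
  have hsq' : (n 1 + 49 * n 7 + 64 * n 8 + 100 * n 10 + 324 * n 18 + 400 * n 20 + 784 * n 28 + 1225 * n 35 +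
      1296 * n 36 + 2025 * n 45 + 3136 * n 56 + 3969 * n 63 + 4096 * n 64 + 4900 * n 70 + 6400 * n 80 +
      8100 * n 90 + 15876 * n 126 : ℤ) = 20160 := by
    rw [hsq]
    simp [DD]
    ring
  clear hsq hq5 hq7 hl5 hl7 hc5 hc7 hcount hnot
  have hD' : ∀ D ∈ DD, (D % 5 = 2 ∨ D % 5 = 5 - 2) → D = 7 ∨ D = 8 ∨ D = 18 ∨ D = 28 ∨ D = 63 := by decide
  have hE' : ∀ D ∈ DD, (D % 7 = 3 ∨ D % 7 = 7 - 3) → D = 10 ∨ D = 18 ∨ D = 45 ∨ D = 80 := by decide
  have hpar1 : 1 ≤ n 1 ∨ (n 1 = 0 ∧ n 7 = 0 ∧ n 35 = 0 ∧ n 45 = 0 ∧ n 63 = 0) := by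
    rcases hpar' with h | h
    · exact Or.inl h
    · exact Or.inr ⟨h 1 (by decide), h 7 (by decide), h 35 (by decide), h 45 (by decide), h 63 (by decide)⟩
  clear hpar hpar'
  have hD1 := hD' D hD5 hm5
  have hE1 := hE' E hD7 hm7
  clear hD' hE' hD5 hD7 hm5 hm7
  have hall : ∀ P : ℕ → Prop, P 1 → P 7 → P 8 → P 10 → P 18 → P 20 → P 28 → P 35 → P 36 → P 45 → P 56 → P 63 →
      P 64 → P 70 → P 80 → P 90 → P 126 → ∀ k ∈ DD, P k := by
    intro P h1 h2 h3 h4 h5 h6 h7 h8 h9 h10 h11 h12 h13 h14 h15 h16 h17 k hk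
    simp only [DD, Finset.mem_insert, Finset.mem_singleton] at hk
    rcases hk with rfl | rfl | rfl | rfl | rfl | rfl | rfl | rfl | rfl | rfl | rfl | rfl | rfl | rfl | rfl |
      rfl | rfl <;> assumption
  rcases arith hD1 hE1 e7 e8 e18 e28 e63 f10 f18 f45 f80 hq5' hq7' hl5' hl7' hsq' hpar1 with
    ⟨h1, h7, h8, h10, h18, h20, h28, h35, h36, h45, h56, h63, h64, h70, h80, h90, h126⟩ |
    ⟨h1, h7, h8, h10, h18, h20, h28, h35, h36, h45, h56, h63, h64, h70, h80, h90, h126⟩ |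
    ⟨h1, h7, h8, h10, h18, h20, h28, h35, h36, h45, h56, h63, h64, h70, h80, h90, h126⟩ |
    ⟨h1, h7, h8, h10, h18, h20, h28, h35, h36, h45, h56, h63, h64, h70, h80, h90, h126⟩
  · rw [hfin {8, 8, 56, 64, 80, 80} (hall _ (by rw [h1]; decide) (by rw [h7]; decide) (by rw [h8]; decide)
           (by rw [h10]; decide) (by rw [h18]; decide) (by rw [h20]; decide) (by rw [h28]; decide)
           (by rw [h35]; decide) (by rw [h36]; decide) (by rw [h45]; decide) (by rw [h56]; decide)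
           (by rw [h63]; decide) (by rw [h64]; decide) (by rw [h70]; decide) (by rw [h80]; decide)
           (by rw [h90]; decide) (by rw [h126]; decide)) (by decide)]
    simp [tabs]
  · rw [hfin {20, 28, 28, 36, 64, 80, 80} (hall _ (by rw [h1]; decide) (by rw [h7]; decide) (by rw [h8]; decide)
           (by rw [h10]; decide) (by rw [h18]; decide) (by rw [h20]; decide) (by rw [h28]; decide)
           (by rw [h35]; decide) (by rw [h36]; decide) (by rw [h45]; decide) (by rw [h56]; decide)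
           (by rw [h63]; decide) (by rw [h64]; decide) (by rw [h70]; decide) (by rw [h80]; decide)
           (by rw [h90]; decide) (by rw [h126]; decide)) (by decide)]
    simp [tabs]
  · rw [hfin {10, 10, 28, 28, 36, 64, 70, 90} (hall _ (by rw [h1]; decide) (by rw [h7]; decide) (by rw [h8]; decide)
           (by rw [h10]; decide) (by rw [h18]; decide) (by rw [h20]; decide) (by rw [h28]; decide)
           (by rw [h35]; decide) (by rw [h36]; decide) (by rw [h45]; decide) (by rw [h56]; decide)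
           (by rw [h63]; decide) (by rw [h64]; decide) (by rw [h70]; decide) (by rw [h80]; decide)
           (by rw [h90]; decide) (by rw [h126]; decide)) (by decide)]
    simp [tabs]
  · rw [hfin {1, 20, 35, 35, 35, 45, 45, 63, 63, 64} (hall _ (by rw [h1]; decide) (by rw [h7]; decide)
           (by rw [h8]; decide) (by rw [h10]; decide) (by rw [h18]; decide) (by rw [h20]; decide)
           (by rw [h28]; decide) (by rw [h35]; decide) (by rw [h36]; decide) (by rw [h45]; decide)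
           (by rw [h56]; decide) (by rw [h63]; decide) (by rw [h64]; decide) (by rw [h70]; decide)
           (by rw [h80]; decide) (by rw [h90]; decide) (by rw [h126]; decide)) (by decide)]
    simp [tabs]

end

end Cfsg.Agent.H407.TI

end

-- merged: L34Loc
section

/-!
# Elements of prime order `p`, `p` exactly dividing the group order: powers conjugate to the element
-/

set_option autoImplicit false

namespace Cfsg.Agent.H407.TI

open Subgroup

/-- the number of elements conjugating `g` to `h` -/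
theorem card_conj {G : Type*} [Group G] {g h : G} (hc : IsConj g h) :
    Nat.card {x : G // x * g * x⁻¹ = h} = Nat.card (centralizer ({g} : Set G)) := by
  obtain ⟨c, hc⟩ := isConj_iff.1 hc
  refine Nat.card_congr ⟨fun x => ⟨c⁻¹ * x.1, ?_⟩, fun y => ⟨c * y.1, ?_⟩, fun x => ?_, fun y => ?_⟩
  · rw [mem_centralizer_singleton_iff]
    have h1 : (x.1 : G) * g * x.1⁻¹ = c * g * c⁻¹ := by rw [x.2, hc]
    calc c⁻¹ * x.1 * g = c⁻¹ * (x.1 * g * x.1⁻¹) * x.1 := by group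
      _ = g * (c⁻¹ * x.1) := by rw [h1]; group
  · have h1 := mem_centralizer_singleton_iff.1 y.2
    calc c * y.1 * g * (c * y.1)⁻¹ = c * (y.1 * g) * (y.1)⁻¹ * c⁻¹ := by group
      _ = h := by rw [h1, ← hc]; group
  · ext; simp
  · ext; simp

theorem card_not_conj {G : Type*} [Group G] {g h : G} (hc : ¬ IsConj g h) :
    Nat.card {x : G // x * g * x⁻¹ = h} = 0 := by
  have : IsEmpty {x : G // x * g * x⁻¹ = h} := ⟨fun ⟨x, hx⟩ => hc (isConj_iff.2 ⟨x, hx⟩)⟩
  exact Nat.card_of_isEmpty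

theorem pow_mod_p {G : Type*} [Group G] {p : ℕ} {x : G} (hx : orderOf x = p) (m : ℕ) : x ^ (m % p) = x ^ m := by
  rw [← hx, pow_mod_orderOf]

local instance fact_five : Fact (Nat.Prime 5) := ⟨by norm_num⟩
local instance fact_seven : Fact (Nat.Prime 7) := ⟨by norm_num⟩

theorem card_cent_conj {G : Type*} [Group G] {g h : G} (hc : IsConj g h) :
    Nat.card (centralizer ({g} : Set G)) = Nat.card (centralizer ({h} : Set G)) := by
  rw [← card_conj hc, ← card_conj hc.symm]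
  refine Nat.card_congr ⟨fun a => ⟨a.1⁻¹, ?_⟩, fun a => ⟨a.1⁻¹, ?_⟩, fun a => by ext; simp, fun a => by ext; simp⟩
  · have := a.2
    rw [inv_inv]
    calc a.1⁻¹ * h * a.1 = a.1⁻¹ * (a.1 * g * a.1⁻¹) * a.1 := by rw [this]
      _ = g := by group
  · have := a.2
    rw [inv_inv]
    calc a.1⁻¹ * g * a.1 = a.1⁻¹ * (a.1 * h * a.1⁻¹) * a.1 := by rw [this]
      _ = h := by group

/-- the exponents of the powers conjugate to `x` -/
noncomputable def JJ {G : Type*} [Group G] (p : ℕ) [NeZero p] (x : G) : Finset (ZMod p) := by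
  classical exact Finset.univ.filter fun k => k ≠ 0 ∧ IsConj x (x ^ k.val)

section

variable {G : Type*} [Group G] {p : ℕ} [hp : Fact p.Prime] {x : G}

theorem mem_JJ {k : ZMod p} : k ∈ JJ p x ↔ k ≠ 0 ∧ IsConj x (x ^ k.val) := by
  classical
  unfold JJ
  rw [Finset.mem_filter]
  exact ⟨fun h => h.2, fun h => ⟨Finset.mem_univ _, h⟩⟩

theorem one_mem_JJ : (1 : ZMod p) ∈ JJ p x := by
  rw [mem_JJ]
  have := Fact.mk hp.out.one_lt
  exact ⟨one_ne_zero, by rw [ZMod.val_one, pow_one]⟩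

theorem mul_mem_JJ (hx : orderOf x = p) {a b : ZMod p} (ha : a ∈ JJ p x) (hb : b ∈ JJ p x) : a * b ∈ JJ p x := by
  rw [mem_JJ] at *
  refine ⟨mul_ne_zero ha.1 hb.1, ?_⟩
  obtain ⟨c, hc⟩ := isConj_iff.1 ha.2
  obtain ⟨d, hd⟩ := isConj_iff.1 hb.2
  refine isConj_iff.2 ⟨c * d, ?_⟩
  have h1 : c * d * x * (c * d)⁻¹ = (x ^ a.val) ^ b.val := by
    calc c * d * x * (c * d)⁻¹ = c * (d * x * d⁻¹) * c⁻¹ := by group
      _ = (c * x * c⁻¹) ^ b.val := by rw [hd, conj_pow]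
      _ = (x ^ a.val) ^ b.val := by rw [hc]
  rw [h1, ← pow_mul, ZMod.val_mul, pow_mod_p hx]

theorem card_normalizer [Finite G] (hx : orderOf x = p) :
    Nat.card (normalizer ((zpowers x : Subgroup G) : Set G)) =
      (JJ p x).card * Nat.card (centralizer ({x} : Set G)) := by
  classical
  have := Fintype.ofFinite G
  have hx1 : x ≠ 1 := by
    rintro rfl
    rw [orderOf_one] at hx
    exact hp.out.one_lt.ne hx
  have hinj : ∀ k l : ZMod p, x ^ k.val = x ^ l.val → k = l := by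
    intro k l h
    have h1 := pow_inj_mod.1 h
    rw [hx, Nat.mod_eq_of_lt (ZMod.val_lt k), Nat.mod_eq_of_lt (ZMod.val_lt l)] at h1
    exact ZMod.val_injective p h1
  have hmem : ∀ n : G, n ∈ normalizer ((zpowers x : Subgroup G) : Set G) ↔ ∃ k : ZMod p, n * x * n⁻¹ = x ^ k.val := by
    intro n
    constructor
    · intro hn
      have h1 : n * x * n⁻¹ ∈ zpowers x := (mem_normalizer_iff.1 hn x).1 (mem_zpowers x)
      obtain ⟨j, hj⟩ := (mem_zpowers_iff_mem_range_orderOf.1 h1 : _ ∈ (Finset.range (orderOf x)).image (x ^ ·)) |>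
        Finset.mem_image.1
      refine ⟨(j : ZMod p), ?_⟩
      rw [ZMod.val_natCast, ← hx, pow_mod_orderOf]
      exact hj.2.symm
    · rintro ⟨k, hk⟩
      have h1 : (zpowers x).map (MulAut.conj n).toMonoidHom = zpowers x := by
        apply eq_of_le_of_card_ge
        · rw [MonoidHom.map_zpowers, zpowers_le]
          show n * x * n⁻¹ ∈ zpowers x
          rw [hk]
          exact pow_mem (mem_zpowers x) _
        · rw [Subgroup.card_map_of_injective (MulAut.conj n).injective]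
      rw [mem_normalizer_iff]
      intro g
      constructor
      · intro hg
        have h2 : (MulAut.conj n) g ∈ (zpowers x).map (MulAut.conj n).toMonoidHom := mem_map_of_mem _ hg
        rw [h1] at h2
        exact h2
      · intro hg
        rw [← h1] at hg
        obtain ⟨g', hg', h3⟩ := hg
        have h4 : n * g' * n⁻¹ = n * g * n⁻¹ := h3
        have h5 : g' = g := by
          have := congrArg (fun t => n⁻¹ * t * n) h4
          simpa [mul_assoc] using this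
        rw [← h5]
        exact hg'
  have h1 : Nat.card (normalizer ((zpowers x : Subgroup G) : Set G)) =
      ∑ n : G, ∑ k : ZMod p, if n * x * n⁻¹ = x ^ k.val then 1 else 0 := by
    rw [Nat.card_eq_fintype_card, Fintype.card_subtype, Finset.card_filter]
    refine Finset.sum_congr rfl fun n _ => ?_
    by_cases hn : n ∈ normalizer ((zpowers x : Subgroup G) : Set G)
    · rw [if_pos hn]
      obtain ⟨k, hk⟩ := (hmem n).1 hn
      rw [Finset.sum_eq_single k, if_pos hk]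
      · intro l _ hl
        rw [if_neg]
        intro h
        exact hl (hinj _ _ (h.symm.trans hk))
      · intro h; exact absurd (Finset.mem_univ _) h
    · rw [if_neg hn]
      symm
      refine Finset.sum_eq_zero fun k _ => ?_
      rw [if_neg]
      intro h
      exact hn ((hmem n).2 ⟨k, h⟩)
  rw [h1, Finset.sum_comm]
  have h2 : ∀ k : ZMod p, (∑ n : G, if n * x * n⁻¹ = x ^ k.val then 1 else 0) =
      if k ∈ JJ p x then Nat.card (centralizer ({x} : Set G)) else 0 := by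
    intro k
    rw [← Finset.card_filter, ← Fintype.card_subtype, ← Nat.card_eq_fintype_card]
    split_ifs with h
    · exact card_conj (mem_JJ.1 h).2
    · apply card_not_conj
      intro hc
      apply h
      rw [mem_JJ]
      refine ⟨?_, hc⟩
      rintro rfl
      rw [ZMod.val_zero, pow_zero] at hc
      obtain ⟨c, hc⟩ := isConj_iff.1 hc.symm
      apply hx1
      rw [← hc]
      group
  rw [Finset.sum_congr rfl fun k _ => h2 k, Finset.sum_ite_mem, Finset.univ_inter, Finset.sum_const, smul_eq_mul]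

/-- **Sylow's theorem** for a Sylow subgroup of order `p`. -/
theorem sylow_JJ [Finite G] (hx : orderOf x = p) (hp2 : ¬ p ^ 2 ∣ Nat.card G) :
    ∃ n : ℕ, n % p = 1 ∧ n * ((JJ p x).card * Nat.card (centralizer ({x} : Set G))) = Nat.card G := by
  have h1 : IsPGroup p (zpowers x) := IsPGroup.of_card (n := 1) (by rw [Nat.card_zpowers, hx, pow_one])
  obtain ⟨P, hP⟩ := h1.exists_le_sylow
  have h2 : Nat.card P = p := by
    obtain ⟨k, hk⟩ := IsPGroup.iff_card.1 P.2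
    have h3 : Nat.card P ∣ Nat.card G := card_subgroup_dvd_card _
    have h4 : p ≤ Nat.card P := by
      have := Nat.le_of_dvd Nat.card_pos (Subgroup.card_dvd_of_le hP)
      rwa [Nat.card_zpowers, hx] at this
    have h5 : k ≤ 1 := by
      by_contra hk2
      exact hp2 (((pow_dvd_pow p (by omega : 2 ≤ k)).trans (hk ▸ dvd_rfl)).trans h3)
    interval_cases k
    · rw [pow_zero] at hk
      have := hp.out.one_lt
      omega
    · rw [hk, pow_one]
  have h3 : zpowers x = P := eq_of_le_of_card_ge hP (by rw [h2, Nat.card_zpowers, hx])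
  refine ⟨Nat.card (Sylow p G), ?_, ?_⟩
  · have h4 := card_sylow_modEq_one p G
    rw [Nat.ModEq, Nat.mod_eq_of_lt hp.out.one_lt] at h4
    exact h4
  · rw [← card_normalizer hx, h3, Sylow.card_eq_index_normalizer P, mul_comm]
    exact card_mul_index _

end

/-- `p = 7` -/
theorem J7_aux : ∀ J : Finset (ZMod 7), 1 ∈ J → 0 ∉ J → (∀ a ∈ J, ∀ b ∈ J, a * b ∈ J) → J.card = 3 →
    J = {1, 2, 4} := by decide +kernel

/-- `p = 5` -/
theorem J5_aux : ∀ J : Finset (ZMod 5), 1 ∈ J → 0 ∉ J → (∀ a ∈ J, ∀ b ∈ J, a * b ∈ J) → J.card = 2 →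
    J = {1, 4} := by decide +kernel

theorem J7 {G : Type*} [Group G] [Finite G] (hG : Nat.card G = 20160) {x : G} (hx : orderOf x = 7)
    (hc : Nat.card (centralizer ({x} : Set G)) = 7) : IsConj x (x ^ 2) ∧ IsConj x (x ^ 4) ∧ ¬ IsConj x (x ^ 6) ∧
      ¬ IsConj x (x ^ 3) ∧ ¬ IsConj x (x ^ 5) := by
  obtain ⟨n, h1, h2⟩ := sylow_JJ (p := 7) hx (by rw [hG]; norm_num)
  rw [hc, hG] at h2
  have h0 : (0 : ZMod 7) ∉ JJ 7 x := fun h => (mem_JJ.1 h).1 rfl
  have h3 : (JJ 7 x).card ≤ 6 := by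
    have : JJ 7 x ⊆ Finset.univ.erase 0 := fun k hk => Finset.mem_erase.2 ⟨fun h => h0 (h ▸ hk), Finset.mem_univ _⟩
    exact (Finset.card_le_card this).trans (by simp [ZMod.card])
  have h4 : (JJ 7 x).card = 3 := by
    have h5 : n * (JJ 7 x).card = 2880 := by nlinarith
    generalize (JJ 7 x).card = c at h3 h5
    interval_cases c <;> omega
  have h5 := J7_aux (JJ 7 x) one_mem_JJ h0 (fun a ha b hb => mul_mem_JJ hx ha hb) h4
  have h6 : ∀ k : ZMod 7, k ≠ 0 → (k ∈ ({1, 2, 4} : Finset (ZMod 7)) ↔ IsConj x (x ^ k.val)) := by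
    intro k hk
    rw [← h5, mem_JJ]
    exact ⟨fun h => h.2, fun h => ⟨hk, h⟩⟩
  exact ⟨(h6 2 (by decide)).1 (by decide), (h6 4 (by decide)).1 (by decide),
    fun h => absurd ((h6 6 (by decide)).2 h) (by decide), fun h => absurd ((h6 3 (by decide)).2 h) (by decide),
    fun h => absurd ((h6 5 (by decide)).2 h) (by decide)⟩

theorem J5 {G : Type*} [Group G] [Finite G] (hG : Nat.card G = 20160) {x : G} (hx : orderOf x = 5)
    (hc : Nat.card (centralizer ({x} : Set G)) = 5) : IsConj x (x ^ 4) ∧ ¬ IsConj x (x ^ 2) ∧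
      ¬ IsConj x (x ^ 3) := by
  obtain ⟨n, h1, h2⟩ := sylow_JJ (p := 5) hx (by rw [hG]; norm_num)
  rw [hc, hG] at h2
  have h0 : (0 : ZMod 5) ∉ JJ 5 x := fun h => (mem_JJ.1 h).1 rfl
  have h3 : (JJ 5 x).card ≤ 4 := by
    have : JJ 5 x ⊆ Finset.univ.erase 0 := fun k hk => Finset.mem_erase.2 ⟨fun h => h0 (h ▸ hk), Finset.mem_univ _⟩
    exact (Finset.card_le_card this).trans (by simp [ZMod.card])
  have h4 : (JJ 5 x).card = 2 := by
    have h5 : n * (JJ 5 x).card = 4032 := by nlinarith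
    generalize (JJ 5 x).card = c at h3 h5
    interval_cases c <;> omega
  have h5 := J5_aux (JJ 5 x) one_mem_JJ h0 (fun a ha b hb => mul_mem_JJ hx ha hb) h4
  have h6 : ∀ k : ZMod 5, k ≠ 0 → (k ∈ ({1, 4} : Finset (ZMod 5)) ↔ IsConj x (x ^ k.val)) := by
    intro k hk
    rw [← h5, mem_JJ]
    exact ⟨fun h => h.2, fun h => ⟨hk, h⟩⟩
  exact ⟨(h6 4 (by decide)).1 (by decide), fun h => absurd ((h6 2 (by decide)).2 h) (by decide),
    fun h => absurd ((h6 3 (by decide)).2 h) (by decide)⟩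

end Cfsg.Agent.H407.TI

end
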