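import Cfsg.Agent.Characters.Central
import Cfsg.Agent.Characters.Core
import Cfsg.Agent.Characters.GaloisBasic
import Cfsg.Agent.H669.Basic
import Cfsg.Agent.S0876
import Mathlib

-- merged: Over
section

/-!
# Characters over a linear character of a central subgroup

* `Over Z lam χ`; `sum_over` : column orthogonality over `lam` for elements of odd order, `Z` a `2`-group;
* `exists_mult` : the multiplicities of the restriction to a cyclic group;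
* `pow_degree` : `lam z ^ χ(1) = 1` in a perfect group.
-/

set_option autoImplicit false

namespace Cfsg.Agent.H407.TI

open Cfsg Cfsg.Agent.Characters.Core Cfsg.Agent.Characters.GaloisBasic
open scoped ComplexConjugate

universe u

variable {E : Type u} [Group E]

/-- `χ` lies over the linear character `lam` of `Z` -/
def Over (Z : Subgroup E) (lam : Z →* ℂˣ) (χ : E → ℂ) : Prop :=
  ∀ (z : Z) (g : E), χ (z * g) = (lam z : ℂ) * χ g

/-- central elements act by scalars -/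
theorem central_mul [Finite E] {χ : E → ℂ} (hχ : IsIrrCharacter E χ) {z : E} (hz : ∀ g, z * g = g * z) (y : E) :
    χ (z * y) = χ z / χ 1 * χ y := by
  classical
  have := Fintype.ofFinite E
  have h := Cfsg.Agent.Characters.Central.sum_char_conj_mul hχ z y
  have h1 : ∀ a : E, a * z * a⁻¹ * y = z * y := by
    intro a; rw [← hz a]; group
  rw [Finset.sum_congr rfl fun a _ => by rw [h1 a], Finset.sum_const, Finset.card_univ,
    ← Nat.card_eq_fintype_card, nsmul_eq_mul] at h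
  have hE : (Nat.card E : ℂ) ≠ 0 := by exact_mod_cast Nat.card_pos.ne'
  have h2 : χ 1 ≠ 0 := isIrr_apply_one_ne_zero hχ
  field_simp
  field_simp at h
  linear_combination h

/-- orthogonality over a central subgroup -/
theorem sum_lam [Finite E] {Z : Subgroup E} [Fintype Z] (hZ : Z ≤ Subgroup.center E) (lam : Z →* ℂˣ) {χ : E → ℂ}
    (hχ : IsIrrCharacter E χ) [Decidable (Over Z lam χ)] (g : E) :
    ∑ z : Z, ((lam z)⁻¹ : ℂˣ) * χ (z * g) = if Over Z lam χ then (Nat.card Z : ℂ) * χ g else 0 := by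
  classical
  have h1 : χ 1 ≠ 0 := isIrr_apply_one_ne_zero hχ
  have hc : ∀ z : Z, ∀ g, (z : E) * g = g * z := fun z g => (Subgroup.mem_center_iff.1 (hZ z.2) g).symm
  split_ifs with h
  · rw [Finset.sum_congr rfl fun z _ => by rw [h z g, ← mul_assoc, ← Units.val_mul, inv_mul_cancel, Units.val_one,
      one_mul], Finset.sum_const, Finset.card_univ, ← Nat.card_eq_fintype_card, nsmul_eq_mul]
  · have h2 : ∃ z₀ : Z, χ z₀ / χ 1 ≠ lam z₀ := by
      by_contra hno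
      push Not at hno
      exact h fun z g => by rw [central_mul hχ (hc z) g, hno z]
    obtain ⟨z₀, hz₀⟩ := h2
    set S : ℂ := ∑ z : Z, ((lam z)⁻¹ : ℂˣ) * χ z with hS
    have h3 : S = ((lam z₀)⁻¹ : ℂˣ) * (χ z₀ / χ 1) * S := by
      rw [hS, Finset.mul_sum]
      refine (Fintype.sum_equiv (Equiv.mulLeft z₀) _ _ fun z => ?_).symm
      rw [Equiv.coe_mulLeft, map_mul, mul_inv, Units.val_mul, Subgroup.coe_mul, central_mul hχ (hc z₀) z]
      ring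
    have h4 : S = 0 := by
      by_contra hne
      have h5 : ((lam z₀)⁻¹ : ℂˣ) * (χ z₀ / χ 1) = 1 :=
        mul_right_cancel₀ hne (by rw [one_mul]; exact h3.symm)
      apply hz₀
      have h6 : (lam z₀ : ℂ) ≠ 0 := (lam z₀).ne_zero
      rw [Units.val_inv_eq_inv_val] at h5
      field_simp at h5 ⊢
      exact h5
    have h7 : ∀ z ∈ (Finset.univ : Finset Z), (((lam z)⁻¹ : ℂˣ) : ℂ) * χ (z * g) =
        (((lam z)⁻¹ : ℂˣ) : ℂ) * χ z * (χ g / χ 1) := by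
      intro z _
      rw [central_mul hχ (hc z) g]
      ring
    rw [Finset.sum_congr rfl h7, ← Finset.sum_mul, ← hS, h4, zero_mul]

/-- a `2`-group has no element of odd order -/
theorem eq_one_of_odd {Z : Subgroup E} (h2 : IsPGroup 2 Z) {z : E} (hz : z ∈ Z) {m : ℕ} (hm : Odd m)
    (h : z ^ m = 1) : z = 1 := by
  obtain ⟨k, hk⟩ := h2 ⟨z, hz⟩
  have h3 : z ^ 2 ^ k = 1 := by
    have := congrArg (Subgroup.subtype Z) hk
    simpa using this
  have h4 : orderOf z ∣ 1 := by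
    have h5 : Nat.Coprime (2 ^ k) m := Nat.Coprime.pow_left k (Nat.coprime_two_left.2 hm)
    rw [← h5]
    exact Nat.dvd_gcd (orderOf_dvd_of_pow_eq_one h3) (orderOf_dvd_of_pow_eq_one h)
  exact orderOf_eq_one_iff.1 (Nat.dvd_one.1 h4)

/-- **Column orthogonality over `lam`**, elements of odd order. -/
theorem sum_over [Finite E] [Fintype (IrrCharacter E)] {Z : Subgroup E} (hZ : Z ≤ Subgroup.center E)
    (h2 : IsPGroup 2 Z) (lam : Z →* ℂˣ) [DecidablePred fun χ : IrrCharacter E => Over Z lam (χ : E → ℂ)] {g h : E}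
    (hg : Odd (orderOf g)) (hh : Odd (orderOf h)) :
    ∑ χ ∈ Finset.univ.filter (fun χ : IrrCharacter E => Over Z lam (χ : E → ℂ)), (χ : E → ℂ) g * conj ((χ : E → ℂ) h) =
      (Nat.card {x : E // x * g * x⁻¹ = h} : ℂ) / Nat.card Z := by
  classical
  have := Fintype.ofFinite E
  have := Fintype.ofFinite Z
  have hZ0 : (Nat.card Z : ℂ) ≠ 0 := by exact_mod_cast Nat.card_pos.ne'
  rw [eq_div_iff hZ0, Finset.sum_mul, Finset.sum_filter]
  have h3 : ∀ χ : IrrCharacter E, (if Over Z lam (χ : E → ℂ) then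
      (χ : E → ℂ) g * conj ((χ : E → ℂ) h) * (Nat.card Z : ℂ) else 0) =
      ∑ z : Z, (((lam z)⁻¹ : ℂˣ) : ℂ) * ((χ : E → ℂ) (z * g) * conj ((χ : E → ℂ) h)) := by
    intro χ
    have h4 := sum_lam hZ lam χ.2 g
    rw [Finset.sum_congr rfl fun z _ => (mul_assoc _ _ _).symm, ← Finset.sum_mul, h4]
    split_ifs <;> ring
  rw [Finset.sum_congr rfl fun χ _ => h3 χ, Finset.sum_comm, Finset.sum_congr rfl fun z _ => by
    rw [← Finset.mul_sum, S0876.sum_irr_mul_conj]]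
  rw [Finset.sum_eq_single (1 : Z)]
  · rw [map_one, inv_one, Units.val_one, one_mul, Subgroup.coe_one, one_mul]
  · intro z _ hz
    have : IsEmpty {x : E // x * (z * g) * x⁻¹ = h} := by
      refine ⟨fun ⟨x, hx⟩ => hz ?_⟩
      have hzc : ∀ y, (z : E) * y = y * z := fun y => (Subgroup.mem_center_iff.1 (hZ z.2) y).symm
      have h4 : ((z : E) * g) ^ (orderOf g * orderOf h) = 1 := by
        have h5 : (z : E) * g = x⁻¹ * h * x := by rw [← hx]; group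
        rw [h5, show x⁻¹ * h * x = x⁻¹ * h * (x⁻¹)⁻¹ by group, conj_pow, pow_mul', pow_orderOf_eq_one, one_pow]
        group
      rw [(show Commute (z : E) g from hzc g).mul_pow, pow_mul g, pow_orderOf_eq_one, one_pow, mul_one] at h4
      exact Subtype.ext (eq_one_of_odd h2 z.2 (hg.mul hh) h4)
    rw [Nat.card_of_isEmpty, Nat.cast_zero, mul_zero]
  · intro h4
    exact absurd (Finset.mem_univ _) h4

/-- multiplicities in the restriction to a cyclic group -/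
theorem exists_mult {χ : E → ℂ} (hχ : IsCharacter E χ) {g : E} {p : ℕ} (hp : p ≠ 0) (hg : g ^ p = 1) {w : ℂ}
    (hw : w ^ p = 1) : ∃ n : ℕ, ∑ k ∈ Finset.range p, χ (g ^ k) * w ^ k = p * n := by
  obtain ⟨d, μ, -, h1, h2⟩ := isCharacter_exists_fin_pow hχ g hp hg
  rw [Finset.sum_congr rfl fun k _ => by rw [h2 k, Finset.sum_mul], Finset.sum_comm]
  have h3 : ∀ i : Fin d, ∃ n : ℕ, ∑ k ∈ Finset.range p, μ i ^ k * w ^ k = p * n := by
    intro i
    by_cases h : μ i * w = 1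
    · refine ⟨1, ?_⟩
      rw [Finset.sum_congr rfl fun k _ => by rw [← mul_pow, h, one_pow], Finset.sum_const, Finset.card_range]
      simp
    · refine ⟨0, ?_⟩
      rw [Finset.sum_congr rfl fun k _ => by rw [← mul_pow], geom_sum_eq h, mul_pow, h1 i, hw]
      simp
  choose n hn using h3
  refine ⟨∑ i, n i, ?_⟩
  rw [Finset.sum_congr rfl fun i _ => hn i, ← Finset.mul_sum]
  push_cast
  rfl

/-- the determinant of a central element in a perfect group -/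
theorem pow_degree [Finite E] (hperf : commutator E = ⊤) {χ : E → ℂ} (hχ : IsIrrCharacter E χ) {Z : Subgroup E}
    (hZ : Z ≤ Subgroup.center E) {lam : Z →* ℂˣ} (h : Over Z lam χ) (z : Z) : (lam z : ℂ) ^ charDegree χ = 1 := by
  obtain ⟨n, ρ, hρ, rfl⟩ := hχ
  have hn : charDegree ρ.character = n := H669.Basic.charDegree_of_natCast (by simp)
  rw [hn]
  obtain ⟨c, hc⟩ := Cfsg.Agent.Characters.Central.exists_smul_of_comm ρ hρ (ρ z) (fun g => by
    rw [← map_mul, ← map_mul, (Subgroup.mem_center_iff.1 (hZ z.2) g)])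
  have h1 : ρ.character z = c * n := by
    rw [Representation.character, hc, map_smul, LinearMap.trace_one]
    simp
  have h2 : ρ.character z = lam z * n := by
    have := h z 1
    rw [mul_one, Representation.char_one] at this
    simpa using this
  have hn0 : (n : ℂ) ≠ 0 := by
    have h3 := Cfsg.Agent.Characters.Central.char_one_ne_zero ρ hρ
    rw [Representation.char_one] at h3
    simpa using h3
  have h3 : c = lam z := mul_right_cancel₀ hn0 (h1.symm.trans h2)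
  let δ : E →* ℂˣ := MonoidHom.toHomUnits (LinearMap.det.comp ρ)
  have h4 : δ (z : E) = 1 := by
    have h5 : (z : E) ∈ commutator E := by rw [hperf]; trivial
    exact Abelianization.commutator_subset_ker δ h5
  have h5 : ((δ (z : E) : ℂˣ) : ℂ) = LinearMap.det (ρ z) := rfl
  rw [h4, hc, LinearMap.det_smul, map_one, mul_one, Units.val_one] at h5
  rw [← h3]
  simpa using h5.symm

end Cfsg.Agent.H407.TI

end

-- merged: L34Val
section

/-!
# Values at elements of order 5 and 7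
-/

set_option autoImplicit false

namespace Cfsg.Agent.H407.TI

open Cfsg Cfsg.Agent.Characters.Core

universe u

/-- a primitive fifth root of unity and its periods -/
theorem exists_five : ∃ ζ : ℂ, ζ ^ 5 = 1 ∧ 1 + ζ + ζ ^ 2 + ζ ^ 3 + ζ ^ 4 = 0 ∧ ζ + ζ ^ 4 ≠ ζ ^ 2 + ζ ^ 3 := by
  have h := Complex.isPrimitiveRoot_exp 5 (by norm_num)
  set ζ : ℂ := Complex.exp (2 * Real.pi * Complex.I / (5 : ℕ)) with hζ
  have h1 : ζ ^ 5 = 1 := h.pow_eq_one
  have h2 := h.geom_sum_eq_zero (by norm_num)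
  simp only [Finset.sum_range_succ, Finset.sum_range_zero, pow_zero, pow_one, zero_add] at h2
  refine ⟨ζ, h1, h2, fun h3 => ?_⟩
  have h4 : (ζ + ζ ^ 4) * (ζ ^ 2 + ζ ^ 3) = -1 := by
    linear_combination (ζ + ζ ^ 2) * h1 + h2
  have h5 : (ζ + ζ ^ 4) + (ζ ^ 2 + ζ ^ 3) = -1 := by linear_combination h2
  rw [← h3] at h4 h5
  have h6 : ζ + ζ ^ 4 = -1 / 2 := by linear_combination h5 / 2
  rw [h6] at h4
  norm_num at h4

/-- a primitive seventh root of unity and its periods -/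
theorem exists_seven : ∃ ζ : ℂ, ζ ^ 7 = 1 ∧ 1 + ζ + ζ ^ 2 + ζ ^ 3 + ζ ^ 4 + ζ ^ 5 + ζ ^ 6 = 0 ∧
    ζ + ζ ^ 2 + ζ ^ 4 ≠ ζ ^ 3 + ζ ^ 5 + ζ ^ 6 := by
  have h := Complex.isPrimitiveRoot_exp 7 (by norm_num)
  set ζ : ℂ := Complex.exp (2 * Real.pi * Complex.I / (7 : ℕ)) with hζ
  have h1 : ζ ^ 7 = 1 := h.pow_eq_one
  have h2 := h.geom_sum_eq_zero (by norm_num)
  simp only [Finset.sum_range_succ, Finset.sum_range_zero, pow_zero, pow_one, zero_add] at h2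
  refine ⟨ζ, h1, h2, fun h3 => ?_⟩
  have h4 : (ζ + ζ ^ 2 + ζ ^ 4) * (ζ ^ 3 + ζ ^ 5 + ζ ^ 6) = 2 := by
    linear_combination (ζ + ζ ^ 2 + ζ ^ 3 + 3) * h1 + h2
  have h5 : (ζ + ζ ^ 2 + ζ ^ 4) + (ζ ^ 3 + ζ ^ 5 + ζ ^ 6) = -1 := by linear_combination h2
  rw [← h3] at h4 h5
  have h6 : ζ + ζ ^ 2 + ζ ^ 4 = -1 / 2 := by linear_combination h5 / 2
  rw [h6] at h4
  norm_num at h4

variable {E : Type u} [Group E]

/-- values at the elements of order 5 -/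
theorem val_five {ζ : ℂ} (h5 : ζ ^ 5 = 1) (hs : 1 + ζ + ζ ^ 2 + ζ ^ 3 + ζ ^ 4 = 0) {χ : E → ℂ}
    (hχ : IsCharacter E χ) {y : E} (hy : y ^ 5 = 1) (h4 : χ (y ^ 4) = χ y) (h3 : χ (y ^ 3) = χ (y ^ 2)) {d : ℕ}
    (hd : χ 1 = d) : ∃ s t : ℤ, χ y = s + t * (ζ + ζ ^ 4) ∧ χ (y ^ 2) = s + t * (ζ ^ 2 + ζ ^ 3) ∧
      (5 : ℤ) ∣ d - (s + 2 * t) := by
  obtain ⟨a0, h0⟩ := exists_mult hχ (by norm_num) hy (w := 1) (one_pow 5)
  obtain ⟨a1, h1⟩ := exists_mult hχ (by norm_num) hy (w := ζ) h5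
  obtain ⟨a2, h2⟩ := exists_mult hχ (by norm_num) hy (w := ζ ^ 2) (by rw [← pow_mul, mul_comm, pow_mul, h5, one_pow])
  simp only [Finset.sum_range_succ, Finset.sum_range_zero, pow_zero, pow_one, zero_add, mul_one, one_pow, hd, h4,
    h3] at h0 h1 h2
  push_cast at h0 h1 h2
  have r1 : (ζ + ζ ^ 4) + (ζ ^ 2 + ζ ^ 3) = -1 := by linear_combination hs
  have r2 : (ζ + ζ ^ 4) * (ζ ^ 2 + ζ ^ 3) = -1 := by linear_combination (ζ + ζ ^ 2) * h5 + hs
  have r3 : (ζ + ζ ^ 4) * (ζ + ζ ^ 4) = 2 + (ζ ^ 2 + ζ ^ 3) := by linear_combination (ζ ^ 3 + 2) * h5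
  have r4 : (ζ ^ 2 + ζ ^ 3) * (ζ ^ 2 + ζ ^ 3) = 2 + (ζ + ζ ^ 4) := by linear_combination (ζ + 2) * h5
  generalize χ y = α at *
  generalize χ (y ^ 2) = β at *
  have g0 : (d : ℂ) + 2 * α + 2 * β = 5 * a0 := by linear_combination h0
  have g1 : (d : ℂ) + α * (ζ + ζ ^ 4) + β * (ζ ^ 2 + ζ ^ 3) = 5 * a1 := by linear_combination h1
  have g2 : (d : ℂ) + α * (ζ ^ 2 + ζ ^ 3) + β * (ζ + ζ ^ 4) = 5 * a2 := by
    linear_combination h2 - (β * ζ + α * ζ ^ 3) * h5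
  generalize ζ + ζ ^ 4 = e at *
  generalize ζ ^ 2 + ζ ^ 3 = f at *
  refine ⟨a0 - a2, a1 - a2, ?_, ?_, ?_⟩
  · push_cast
    linear_combination (g0 - g2 + (g1 - g2) * e + β * r1 + (α - β) * (r2 - r3)) / 5
  · push_cast
    linear_combination (g0 - g2 + (g1 - g2) * f + α * r1 + (α - β) * (r4 - r2)) / 5
  · have h6 : (d : ℂ) = ((a0 + 2 * a1 + 2 * a2 : ℤ) : ℂ) := by
      push_cast
      linear_combination (g0 + 2 * g1 + 2 * g2 - 2 * (α + β) * r1) / 5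
    have h7 : (d : ℤ) = a0 + 2 * a1 + 2 * a2 := by exact_mod_cast h6
    exact ⟨a2, by rw [h7]; ring⟩

/-- values at the elements of order 7 -/
theorem val_seven {ζ : ℂ} (h7 : ζ ^ 7 = 1) (hs : 1 + ζ + ζ ^ 2 + ζ ^ 3 + ζ ^ 4 + ζ ^ 5 + ζ ^ 6 = 0) {χ : E → ℂ}
    (hχ : IsCharacter E χ) {y : E} (hy : y ^ 7 = 1) (e2 : χ (y ^ 2) = χ y) (e4 : χ (y ^ 4) = χ y)
    (e5 : χ (y ^ 5) = χ (y ^ 3)) (e6 : χ (y ^ 6) = χ (y ^ 3)) {d : ℕ}
    (hd : χ 1 = d) : ∃ s t : ℤ, χ y = s + t * (ζ + ζ ^ 2 + ζ ^ 4) ∧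
      χ (y ^ 3) = s + t * (ζ ^ 3 + ζ ^ 5 + ζ ^ 6) ∧ (7 : ℤ) ∣ d - (s + 3 * t) := by
  obtain ⟨a0, h0⟩ := exists_mult hχ (by norm_num) hy (w := 1) (one_pow 7)
  obtain ⟨a2, h2⟩ := exists_mult hχ (by norm_num) hy (w := ζ) h7
  obtain ⟨a1, h1⟩ := exists_mult hχ (by norm_num) hy (w := ζ ^ 3) (by rw [← pow_mul, mul_comm, pow_mul, h7, one_pow])
  simp only [Finset.sum_range_succ, Finset.sum_range_zero, pow_zero, pow_one, zero_add, mul_one, one_pow, hd, e2, e4,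
    e5, e6] at h0 h1 h2
  push_cast at h0 h1 h2
  have r1 : (ζ + ζ ^ 2 + ζ ^ 4) + (ζ ^ 3 + ζ ^ 5 + ζ ^ 6) = -1 := by linear_combination hs
  have r2 : (ζ + ζ ^ 2 + ζ ^ 4) * (ζ ^ 3 + ζ ^ 5 + ζ ^ 6) = 2 := by
    linear_combination (ζ + ζ ^ 2 + ζ ^ 3 + 3) * h7 + hs
  have r3 : (ζ + ζ ^ 2 + ζ ^ 4) * (ζ + ζ ^ 2 + ζ ^ 4) = (ζ + ζ ^ 2 + ζ ^ 4) + 2 * (ζ ^ 3 + ζ ^ 5 + ζ ^ 6) := by
    linear_combination ζ * h7
  have r4 : (ζ ^ 3 + ζ ^ 5 + ζ ^ 6) * (ζ ^ 3 + ζ ^ 5 + ζ ^ 6) =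
      (ζ ^ 3 + ζ ^ 5 + ζ ^ 6) + 2 * (ζ + ζ ^ 2 + ζ ^ 4) := by
    linear_combination (ζ ^ 3 + ζ ^ 5 + 2 * ζ + 2 * ζ ^ 2 + 2 * ζ ^ 4) * h7
  generalize χ y = α at *
  generalize χ (y ^ 3) = β at *
  have g0 : (d : ℂ) + 3 * α + 3 * β = 7 * a0 := by linear_combination h0
  have g2 : (d : ℂ) + α * (ζ + ζ ^ 2 + ζ ^ 4) + β * (ζ ^ 3 + ζ ^ 5 + ζ ^ 6) = 7 * a2 := by linear_combination h2
  have g1 : (d : ℂ) + α * (ζ ^ 3 + ζ ^ 5 + ζ ^ 6) + β * (ζ + ζ ^ 2 + ζ ^ 4) = 7 * a1 := by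
    linear_combination h1 - (β * ζ ^ 2 + α * ζ ^ 5 + β * ζ * (ζ ^ 7 + 1) + β * ζ ^ 4 * (ζ ^ 7 + 1)) * h7
  generalize ζ + ζ ^ 2 + ζ ^ 4 = e at *
  generalize ζ ^ 3 + ζ ^ 5 + ζ ^ 6 = f at *
  refine ⟨a0 - a2, a1 - a2, ?_, ?_, ?_⟩
  · push_cast
    linear_combination (g0 - g2 + (g1 - g2) * e + (2 * α - β) * r1 + (α - β) * (r3 - r2)) / 7
  · push_cast
    linear_combination (g0 - g2 + (g1 - g2) * f + (2 * β - α) * r1 + (α - β) * (r2 - r4)) / 7
  · have h6 : (d : ℂ) = ((a0 + 3 * a1 + 3 * a2 : ℤ) : ℂ) := by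
      push_cast
      linear_combination (g0 + 3 * g1 + 3 * g2 - 3 * (α + β) * r1) / 7
    have h8 : (d : ℤ) = a0 + 3 * a1 + 3 * a2 := by exact_mod_cast h6
    exact ⟨a2, by rw [h8]; ring⟩

/-- separation of the coefficients -/
theorem sep {e f : ℂ} (hne : e ≠ f) {A B : ℤ} (h1 : (A : ℂ) + B * e = 0) (h2 : (A : ℂ) + B * f = 0) :
    A = 0 ∧ B = 0 := by
  have h3 : (B : ℂ) * (e - f) = 0 := by linear_combination h1 - h2
  rcases mul_eq_zero.1 h3 with h | h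
  · rw [h, zero_mul, add_zero] at h1
    exact ⟨by exact_mod_cast h1, by exact_mod_cast h⟩
  · exact absurd (sub_eq_zero.1 h) hne

end Cfsg.Agent.H407.TI

end
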