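import Mathlib
import Cfsg.Agent.H407.TI.Over
import Cfsg.Agent.H407.TI.L34Table
import Cfsg.Agent.H326.Four.LThree

-- merged: L34E
section

/-!
# Central extensions of `L₃(4)` by `2`-groups: the degrees over a linear character of the centre (task 5079)

`Hyp E Z` : `E` is perfect, `Z` is a central `2`-subgroup, `E / Z ≅ PSL(3,4)`;
`main` : the multiset of the degrees of the irreducible characters of `E` over `lam : Z →* ℂˣ` is one of four.
-/

set_option autoImplicit false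

namespace Cfsg.Agent.H407.TI

open Subgroup Cfsg Cfsg.Agent.Characters.Core
open Cfsg.Agent.SporadicA.FieldFour Cfsg.Agent.ONType.Psl Cfsg.Agent.ONType.PslCard
open Cfsg.Agent.CpAut.SmallP.PslFour (finite_PSL3)
open scoped ComplexConjugate

universe u

/-! ### Facts on `PSL(3,4)` -/

theorem cent_H : centralizer ({(QuotientGroup.mk H : PSL3)} : Set PSL3) = H326.Four.E := by
  have hf := finite_PSL3
  symm
  apply Subgroup.eq_of_le_of_card_ge
  · rintro _ ⟨i, j, rfl⟩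
    rw [mem_centralizer_singleton_iff]
    have h1 : (QuotientGroup.mk H : PSL3) = H326.Four.eE 1 0 := by
      show (QuotientGroup.mk H : PSL3) = (QuotientGroup.mk (H ^ 1 * H326.Four.B ^ 0) : PSL3)
      rw [pow_one, pow_zero, mul_one]
    rw [h1, H326.Four.eE_mul, H326.Four.eE_mul, add_comm i, add_comm j]
  · rw [H326.Four.card_E]
    exact Nat.le_of_dvd (by norm_num) (BpSpor.LFour.card_three H326.Four.order_H)

theorem card_cent_three {x : PSL3} (hx : orderOf x = 3) : Nat.card (centralizer ({x} : Set PSL3)) = 9 := by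
  rw [← H326.Four.card_E, ← cent_H]
  exact (card_cent_conj (H326.Four.conj_H hx)).symm

theorem cube_of_nine {a : PSL3} (ha : a ^ 9 = 1) : a ^ 3 = 1 := by
  by_contra h3
  have f3 : Fact (Nat.Prime 3) := ⟨Nat.prime_three⟩
  have h1 : orderOf (a ^ 3) = 3 := orderOf_eq_prime (by rw [← pow_mul]; exact ha) h3
  obtain ⟨c, hc⟩ := isConj_iff.1 (H326.Four.conj_H h1)
  have h2 : c⁻¹ * a * c ∈ centralizer ({(QuotientGroup.mk H : PSL3)} : Set PSL3) := by
    rw [mem_centralizer_singleton_iff]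
    have h4 : (QuotientGroup.mk H : PSL3) = c⁻¹ * a ^ 3 * c := by rw [← hc]; group
    rw [h4]
    group
  rw [cent_H] at h2
  have h4 : c⁻¹ * a * c ≠ 1 := by
    intro h
    apply h3
    have : a = c * (c⁻¹ * a * c) * c⁻¹ := by group
    rw [this, h]
    group
  have h5 := H326.Four.order_of_mem h2 h4
  have h6 := pow_orderOf_eq_one (c⁻¹ * a * c)
  rw [h5] at h6
  apply h3
  have h7 : a ^ 3 = c * (c⁻¹ * a * c) ^ 3 * c⁻¹ := by
    rw [← conj_pow]
    congr 1
    group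
  rw [h7, h6]
  group

/-! ### The hypothesis -/

/-- `E` is a perfect central extension of `PSL(3,4)` by the `2`-group `Z` -/
structure Hyp (E : Type u) [Group E] (Z : Subgroup E) : Prop where
  perf : commutator E = ⊤
  cen : Z ≤ center E
  two : IsPGroup 2 Z
  quo : ∃ π : E →* PSL3, Function.Surjective π ∧ π.ker = Z

theorem Hyp.of_equiv {E : Type u} [Group E] {Z : Subgroup E} [Z.Normal] (hperf : commutator E = ⊤)
    (hcen : Z ≤ center E) (htwo : IsPGroup 2 Z) {F : Type*} [Field F] [Fintype F] (hF : Fintype.card F = 4)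
    (e : E ⧸ Z ≃* Matrix.ProjectiveSpecialLinearGroup (Fin 3) F) : Hyp E Z := by
  obtain ⟨f⟩ := nonempty_psl_equiv (n := Fin 3) F hF
  refine ⟨hperf, hcen, htwo, ⟨((e.trans f.symm).toMonoidHom).comp (QuotientGroup.mk' Z),
    (e.trans f.symm).surjective.comp (QuotientGroup.mk'_surjective Z), ?_⟩⟩
  ext g
  rw [MonoidHom.mem_ker]
  show (e.trans f.symm) (QuotientGroup.mk' Z g) = 1 ↔ _
  rw [map_eq_one_iff _ (e.trans f.symm).injective]
  exact QuotientGroup.eq_one_iff g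

section

variable {E : Type u} [Group E] {Z : Subgroup E}

theorem inj_odd (h : Hyp E Z) {π : E →* PSL3} (hk : π.ker = Z) {g k : E} (hg : Odd (orderOf g))
    (hh : Odd (orderOf k)) (he : π g = π k) : g = k := by
  have hz : g * k⁻¹ ∈ Z := by rw [← hk, MonoidHom.mem_ker, map_mul, map_inv, he, mul_inv_cancel]
  have hc := h.cen hz
  have hcomm : Commute g k := by
    have h1 : (g * k⁻¹) * k = k * (g * k⁻¹) := (mem_center_iff.1 hc k).symm
    have h2 : g = k * (g * k⁻¹) := by rw [← h1]; group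
    show g * k = k * g
    calc g * k = k * (g * k⁻¹) * k := by rw [← h2]
      _ = k * g := by group
  have h3 : (g * k⁻¹) ^ (orderOf g * orderOf k) = 1 := by
    rw [hcomm.inv_right.mul_pow, pow_mul, pow_orderOf_eq_one, one_pow, one_mul, mul_comm, pow_mul, inv_pow,
      pow_orderOf_eq_one, inv_one, one_pow]
  have h4 := eq_one_of_odd h.two hz (hg.mul hh) h3
  exact mul_inv_eq_one.1 h4

theorem conj_odd (h : Hyp E Z) {π : E →* PSL3} (hs : Function.Surjective π) (hk : π.ker = Z) {g k : E}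
    (hg : Odd (orderOf g)) (hh : Odd (orderOf k)) : IsConj (π g) (π k) ↔ IsConj g k := by
  constructor
  · intro hc
    obtain ⟨c, hc⟩ := isConj_iff.1 hc
    obtain ⟨c, rfl⟩ := hs c
    refine isConj_iff.2 ⟨c, inj_odd h hk ?_ hh (by rw [map_mul, map_mul, map_inv, hc])⟩
    rwa [show c * g * c⁻¹ = MulAut.conj c g from rfl, MulEquiv.orderOf_eq]
  · intro hc
    obtain ⟨c, hc⟩ := isConj_iff.1 hc
    exact isConj_iff.2 ⟨π c, by rw [← hc, map_mul, map_mul, map_inv]⟩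

theorem order_odd (h : Hyp E Z) {π : E →* PSL3} (hk : π.ker = Z) {g : E} (hg : Odd (orderOf g)) :
    orderOf (π g) = orderOf g := by
  apply Nat.dvd_antisymm (orderOf_map_dvd π g)
  have h1 : π (g ^ orderOf (π g)) = π 1 := by rw [map_pow, pow_orderOf_eq_one, map_one]
  have h2 : g ^ orderOf (π g) = 1 := inj_odd h hk (hg.of_dvd_nat (orderOf_pow_dvd _))
    (by rw [orderOf_one]; exact odd_one) h1
  exact orderOf_dvd_of_pow_eq_one h2

theorem card_E_eq {π : E →* PSL3} (hs : Function.Surjective π) (hk : π.ker = Z) :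
    Nat.card E = Nat.card Z * 20160 := by
  have h1 : Z.index = 20160 := by
    rw [← hk, index_ker, MonoidHom.range_eq_top.2 hs, card_top, card_PSL3]
  rw [← h1, card_mul_index]

theorem card_cent_eq [Finite E] (h : Hyp E Z) {π : E →* PSL3} (hs : Function.Surjective π) (hk : π.ker = Z) {g : E}
    (hg : Odd (orderOf g)) : Nat.card (centralizer ({g} : Set E)) =
      Nat.card Z * Nat.card (centralizer ({π g} : Set PSL3)) := by
  have h1 : centralizer ({g} : Set E) = (centralizer ({π g} : Set PSL3)).comap π := by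
    ext c
    rw [mem_comap, mem_centralizer_singleton_iff, mem_centralizer_singleton_iff]
    constructor
    · intro hc
      rw [← map_mul, hc, map_mul]
    · intro hc
      have h2 : π (c * g * c⁻¹) = π g := by rw [map_mul, map_mul, map_inv, hc]; group
      have h3 := inj_odd h hk (by rwa [show c * g * c⁻¹ = MulAut.conj c g from rfl, MulEquiv.orderOf_eq]) hg h2
      exact mul_inv_eq_iff_eq_mul.1 h3
  have h2 := (centralizer ({g} : Set E)).card_mul_index
  have h3 := (centralizer ({π g} : Set PSL3)).card_mul_index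
  have h4 : (centralizer ({g} : Set E)).index = (centralizer ({π g} : Set PSL3)).index := by
    rw [h1, index_comap_of_surjective _ hs]
  have h5 : 0 < (centralizer ({g} : Set E)).index := Nat.pos_of_ne_zero index_ne_zero_of_finite
  apply Nat.eq_of_mul_eq_mul_right h5
  rw [h2, card_E_eq hs hk, mul_assoc, h4, h3, card_PSL3]

/-- **Orthogonality.** -/
theorem orth [Finite E] [Fintype (IrrCharacter E)] (h : Hyp E Z) {π : E →* PSL3} (hs : Function.Surjective π)
    (hk : π.ker = Z) (lam : Z →* ℂˣ) [DecidablePred fun χ : IrrCharacter E => Over Z lam (χ : E → ℂ)] {g k : E}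
    (hg : Odd (orderOf g)) (hh : Odd (orderOf k)) {n : ℕ}
    (hn : Nat.card (centralizer ({π g} : Set PSL3)) = n) :
    (IsConj g k → ∑ χ ∈ Finset.univ.filter (fun χ : IrrCharacter E => Over Z lam (χ : E → ℂ)),
      (χ : E → ℂ) g * conj ((χ : E → ℂ) k) = n) ∧
    (¬ IsConj g k → ∑ χ ∈ Finset.univ.filter (fun χ : IrrCharacter E => Over Z lam (χ : E → ℂ)),
      (χ : E → ℂ) g * conj ((χ : E → ℂ) k) = 0) := by
  have hZ0 : (Nat.card Z : ℂ) ≠ 0 := by exact_mod_cast Nat.card_pos.ne'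
  rw [sum_over h.cen h.two lam hg hh]
  constructor
  · intro hc
    rw [card_conj hc, card_cent_eq h hs hk hg, hn]
    push_cast
    field_simp
  · intro hc
    rw [card_not_conj hc]
    simp

/-- the value at the elements of order three -/
theorem val_three [Finite E] (h : Hyp E Z) {x : E} (hx : orderOf x = 3) {χ : E → ℂ} (hχ : IsCharacter E χ) {d : ℕ}
    (hd : χ 1 = d) : ∃ v : ℤ, χ x = v ∧ (9 : ℤ) ∣ d - v := by
  classical
  obtain ⟨π, hs, hk⟩ := h.quo
  have f3 : Fact (Nat.Prime 3) := ⟨Nat.prime_three⟩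
  obtain ⟨Q⟩ : Nonempty (Sylow 3 E) := inferInstance
  have hQ : Nat.card (Q : Subgroup E) = 9 := by
    rw [Sylow.card_eq_multiplicity, card_E_eq hs hk]
    obtain ⟨n, hn⟩ := (IsPGroup.iff_card (p := 2)).1 h.two
    rw [hn, Nat.factorization_mul (by positivity) (by norm_num), Finsupp.add_apply,
      Nat.Prime.factorization_pow Nat.prime_two, show (20160 : ℕ) = 3 ^ 2 * 2240 by norm_num,
      Nat.factorization_mul (by norm_num) (by norm_num), Finsupp.add_apply, Nat.Prime.factorization_pow Nat.prime_three,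
      Nat.factorization_eq_zero_of_not_dvd (show ¬ 3 ∣ 2240 by norm_num)]
    simp
  have := Fintype.ofFinite (Q : Subgroup E)
  have hcl := isCharacter_isClassFunction hχ
  have hval : ∀ q ∈ Finset.univ.erase (1 : (Q : Subgroup E)), χ q = χ x := by
    intro q hq
    have hq1 : (q : E) ≠ 1 := fun e => Finset.ne_of_mem_erase hq (Subtype.ext e)
    have h9 : (q : E) ^ 9 = 1 := by
      have := pow_card_eq_one' (x := q)
      rw [hQ] at this
      rw [← Subgroup.coe_pow, this, Subgroup.coe_one]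
    have hodd : Odd (orderOf (q : E)) := Odd.of_dvd_nat (by decide : Odd 9) (orderOf_dvd_of_pow_eq_one h9)
    have h3 : (q : E) ^ 3 = 1 := by
      refine inj_odd h hk (hodd.of_dvd_nat (orderOf_pow_dvd _)) (by rw [orderOf_one]; exact odd_one) ?_
      rw [map_pow, map_one]
      exact cube_of_nine (by rw [← map_pow, h9, map_one])
    have ho : orderOf (q : E) = 3 := orderOf_eq_prime h3 hq1
    have hc : IsConj x (q : E) := by
      rw [← conj_odd h hs hk (by rw [hx]; decide) hodd]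
      exact H326.Four.conj_three (by rw [order_odd h hk (by rw [hx]; decide), hx])
        (by rw [order_odd h hk hodd, ho])
    obtain ⟨g, hg⟩ := isConj_iff.1 hc
    rw [← hg]
    exact hcl x g
  obtain ⟨m, hm⟩ := classInner_isNat (Characters.Clifford.isCharacter_restrict (Q : Subgroup E) hχ)
    (isIrr_isCharacter (isIrr_one (G := (Q : Subgroup E))))
  rw [classInner_def, hQ] at hm
  have hsum : ∑ q : (Q : Subgroup E), χ q * conj ((1 : ↥(Q : Subgroup E) → ℂ) q) = d + 8 * χ x := by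
    have e1 : ∀ q : (Q : Subgroup E), χ q * conj ((1 : ↥(Q : Subgroup E) → ℂ) q) = χ q := by
      intro q; simp
    rw [Finset.sum_congr rfl fun q _ => e1 q, ← Finset.add_sum_erase _ _ (Finset.mem_univ (1 : (Q : Subgroup E))),
      Finset.sum_congr rfl hval, Finset.sum_const, Finset.card_erase_of_mem (Finset.mem_univ _), Finset.card_univ,
      ← Nat.card_eq_fintype_card, hQ]
    have : χ ((1 : (Q : Subgroup E)) : E) = d := hd
    rw [this, nsmul_eq_mul]
    norm_num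
  rw [hsum] at hm
  have h1 : (d : ℂ) + 8 * χ x = 9 * m := by
    have : (9 : ℂ) ≠ 0 := by norm_num
    push_cast at hm
    field_simp at hm
    linear_combination hm
  have h2 : ∃ q : ℚ, χ x = q := ⟨(9 * m - d) / 8, by push_cast; linear_combination h1 / 8⟩
  obtain ⟨w, hw⟩ := Characters.GaloisBasic.exists_int_of_isIntegral (Characters.GaloisBasic.isIntegral_apply hχ x) h2
  refine ⟨w, hw, m - w, ?_⟩
  rw [hw] at h1
  have h3 : (d : ℤ) + 8 * w = 9 * m := by exact_mod_cast h1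
  linarith

/-- elements of the orders 3, 5, 7 exist -/
theorem exists_order [Finite E] (h : Hyp E Z) {p : ℕ} (hp : p.Prime) (hd : p ∣ 20160) : ∃ x : E, orderOf x = p := by
  obtain ⟨π, hs, hk⟩ := h.quo
  have := Fact.mk hp
  exact exists_prime_orderOf_dvd_card' p (by rw [card_E_eq hs hk]; exact hd.mul_left _)

theorem odd_pow {g : E} (hg : Odd (orderOf g)) (k : ℕ) : Odd (orderOf (g ^ k)) :=
  hg.of_dvd_nat (orderOf_pow_dvd k)

/-- the conjugacy of the powers of an element of order 5 -/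
theorem conj_five [Finite E] (h : Hyp E Z) {y : E} (hy : orderOf y = 5) :
    IsConj y (y ^ 4) ∧ ¬ IsConj y (y ^ 2) ∧ ¬ IsConj y (y ^ 3) := by
  obtain ⟨π, hs, hk⟩ := h.quo
  have hf := finite_PSL3
  have hodd : Odd (orderOf y) := by rw [hy]; decide
  have hy' : orderOf (π y) = 5 := by rw [order_odd h hk hodd, hy]
  have hJ := J5 card_PSL3 hy' (BpSpor.LFour.card_five hy')
  simp only [← map_pow] at hJ
  rw [conj_odd h hs hk hodd (odd_pow hodd 4), conj_odd h hs hk hodd (odd_pow hodd 2),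
    conj_odd h hs hk hodd (odd_pow hodd 3)] at hJ
  exact hJ

/-- the conjugacy of the powers of an element of order 7 -/
theorem conj_seven [Finite E] (h : Hyp E Z) {y : E} (hy : orderOf y = 7) :
    IsConj y (y ^ 2) ∧ IsConj y (y ^ 4) ∧ ¬ IsConj y (y ^ 6) ∧ ¬ IsConj y (y ^ 3) ∧ ¬ IsConj y (y ^ 5) := by
  obtain ⟨π, hs, hk⟩ := h.quo
  have hf := finite_PSL3
  have hodd : Odd (orderOf y) := by rw [hy]; decide
  have hy' : orderOf (π y) = 7 := by rw [order_odd h hk hodd, hy]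
  have hJ := J7 card_PSL3 hy' (BpSpor.LFour.card_seven hy')
  simp only [← map_pow] at hJ
  rw [conj_odd h hs hk hodd (odd_pow hodd 2), conj_odd h hs hk hodd (odd_pow hodd 4),
    conj_odd h hs hk hodd (odd_pow hodd 6), conj_odd h hs hk hodd (odd_pow hodd 3),
    conj_odd h hs hk hodd (odd_pow hodd 5)] at hJ
  exact hJ

theorem char_conj_eq {χ : E → ℂ} (hχ : IsCharacter E χ) {g k : E} (hc : IsConj g k) : χ g = χ k := by
  obtain ⟨c, rfl⟩ := isConj_iff.1 hc
  exact (isCharacter_isClassFunction hχ g c).symm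

/-- the values at an element of order 5 -/
theorem five [Finite E] (h : Hyp E Z) {y : E} (hy : orderOf y = 5) {ζ : ℂ} (h5 : ζ ^ 5 = 1)
    (hs : 1 + ζ + ζ ^ 2 + ζ ^ 3 + ζ ^ 4 = 0) (χ : IrrCharacter E) :
    ∃ s t : ℤ, (χ : E → ℂ) y = s + t * (ζ + ζ ^ 4) ∧ (χ : E → ℂ) (y ^ 2) = s + t * (ζ ^ 2 + ζ ^ 3) ∧
      conj ((χ : E → ℂ) y) = (χ : E → ℂ) y ∧ conj ((χ : E → ℂ) (y ^ 2)) = (χ : E → ℂ) (y ^ 2) ∧
      (5 : ℤ) ∣ (charDegree (χ : E → ℂ) : ℤ) - (s + 2 * t) := by
  have hχ := isIrr_isCharacter χ.2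
  have hy5 : y ^ 5 = 1 := by rw [← hy, pow_orderOf_eq_one]
  have hc := conj_five h hy
  have e4 : (χ : E → ℂ) (y ^ 4) = (χ : E → ℂ) y := (char_conj_eq hχ hc.1).symm
  have e3 : (χ : E → ℂ) (y ^ 3) = (χ : E → ℂ) (y ^ 2) := by
    symm
    apply char_conj_eq hχ
    obtain ⟨c, hc⟩ := isConj_iff.1 hc.1
    refine isConj_iff.2 ⟨c, ?_⟩
    rw [← conj_pow, hc, ← pow_mul, show 4 * 2 = 5 + 3 by norm_num, pow_add, hy5, one_mul]
  obtain ⟨s, t, h1, h2, h3⟩ := val_five h5 hs hχ hy5 e4 e3 (H669.Basic.charDegree_eq χ.2)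
  refine ⟨s, t, h1, h2, ?_, ?_, h3⟩
  · rw [← isCharacter_apply_inv hχ, show y⁻¹ = y ^ 4 from inv_eq_of_mul_eq_one_right (by
      rw [← pow_succ']; exact hy5), e4]
  · rw [← isCharacter_apply_inv hχ, show (y ^ 2)⁻¹ = y ^ 3 from inv_eq_of_mul_eq_one_right (by
      rw [← pow_add]; exact hy5), e3]

/-- the values at an element of order 7 -/
theorem seven [Finite E] (h : Hyp E Z) {y : E} (hy : orderOf y = 7) {ζ : ℂ} (h7 : ζ ^ 7 = 1)
    (hs : 1 + ζ + ζ ^ 2 + ζ ^ 3 + ζ ^ 4 + ζ ^ 5 + ζ ^ 6 = 0) (χ : IrrCharacter E) :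
    ∃ s t : ℤ, (χ : E → ℂ) y = s + t * (ζ + ζ ^ 2 + ζ ^ 4) ∧
      (χ : E → ℂ) (y ^ 3) = s + t * (ζ ^ 3 + ζ ^ 5 + ζ ^ 6) ∧
      conj ((χ : E → ℂ) y) = (χ : E → ℂ) (y ^ 3) ∧ conj ((χ : E → ℂ) (y ^ 3)) = (χ : E → ℂ) y ∧
      (7 : ℤ) ∣ (charDegree (χ : E → ℂ) : ℤ) - (s + 3 * t) := by
  have hχ := isIrr_isCharacter χ.2
  have hy7 : y ^ 7 = 1 := by rw [← hy, pow_orderOf_eq_one]
  have hc := conj_seven h hy
  have e2 : (χ : E → ℂ) (y ^ 2) = (χ : E → ℂ) y := (char_conj_eq hχ hc.1).symm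
  have e4 : (χ : E → ℂ) (y ^ 4) = (χ : E → ℂ) y := (char_conj_eq hχ hc.2.1).symm
  have e6 : (χ : E → ℂ) (y ^ 6) = (χ : E → ℂ) (y ^ 3) := by
    symm
    apply char_conj_eq hχ
    obtain ⟨c, hc⟩ := isConj_iff.1 hc.1
    refine isConj_iff.2 ⟨c, ?_⟩
    rw [← conj_pow, hc, ← pow_mul]
  have e5 : (χ : E → ℂ) (y ^ 5) = (χ : E → ℂ) (y ^ 3) := by
    symm
    apply char_conj_eq hχ
    obtain ⟨c, hc⟩ := isConj_iff.1 hc.2.1
    refine isConj_iff.2 ⟨c, ?_⟩
    rw [← conj_pow, hc, ← pow_mul, show 4 * 3 = 7 + 5 by norm_num, pow_add, hy7, one_mul]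
  obtain ⟨s, t, h1, h2, h3⟩ := val_seven h7 hs hχ hy7 e2 e4 e5 e6 (H669.Basic.charDegree_eq χ.2)
  refine ⟨s, t, h1, h2, ?_, ?_, h3⟩
  · rw [← isCharacter_apply_inv hχ, show y⁻¹ = y ^ 6 from inv_eq_of_mul_eq_one_right (by
      rw [← pow_succ']; exact hy7), e6]
  · rw [← isCharacter_apply_inv hχ, show (y ^ 3)⁻¹ = y ^ 4 from inv_eq_of_mul_eq_one_right (by
      rw [← pow_add]; exact hy7), e4]

/-- the members -/
noncomputable def mem (lam : Z →* ℂˣ) [Fintype (IrrCharacter E)] : Finset (IrrCharacter E) := by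
  classical exact Finset.univ.filter fun χ : IrrCharacter E => Over Z lam (χ : E → ℂ)

theorem mem_mem {lam : Z →* ℂˣ} [Fintype (IrrCharacter E)] {χ : IrrCharacter E} :
    χ ∈ mem lam ↔ Over Z lam (χ : E → ℂ) := by
  classical
  unfold mem
  rw [Finset.mem_filter]
  exact ⟨fun h => h.2, fun h => ⟨Finset.mem_univ _, h⟩⟩

theorem quad_five {A B C : ℤ} {e f : ℂ} (hne : e ≠ f) (r1 : e + f = -1) (r2 : e * f = -1)
    (h1 : (A : ℂ) + 2 * B * e + C * (e * e) = 5) (h2 : (A : ℂ) + 2 * B * f + C * (f * f) = 5)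
    (h3 : (A : ℂ) + B * (e + f) + C * (e * f) = 0) : A = 3 ∧ B = 1 ∧ C = 2 := by
  have e2 : e * e = 1 - e := by linear_combination e * r1 - r2
  have f2 : f * f = 1 - f := by linear_combination f * r1 - r2
  obtain ⟨h4, h5⟩ := sep hne (A := A + C - 5) (B := 2 * B - C)
    (by push_cast; linear_combination h1 - C * e2) (by push_cast; linear_combination h2 - C * f2)
  have h6 : ((A - B - C : ℤ) : ℂ) = 0 := by push_cast; linear_combination h3 - B * r1 - C * r2
  have h7 : A - B - C = 0 := by exact_mod_cast h6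
  omega

theorem quad_seven {A B C : ℤ} {e f : ℂ} (hne : e ≠ f) (r1 : e + f = -1) (r2 : e * f = 2)
    (h1 : (A : ℂ) + 2 * B * e + C * (e * e) = 0) (h2 : (A : ℂ) + 2 * B * f + C * (f * f) = 0)
    (h3 : (A : ℂ) + B * (e + f) + C * (e * f) = 7) : A = 4 ∧ B = 1 ∧ C = 2 := by
  have e2 : e * e = -2 - e := by linear_combination e * r1 - r2
  have f2 : f * f = -2 - f := by linear_combination f * r1 - r2
  obtain ⟨h4, h5⟩ := sep hne (A := A - 2 * C) (B := 2 * B - C)
    (by push_cast; linear_combination h1 - C * e2) (by push_cast; linear_combination h2 - C * f2)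
  have h6 : ((A - B + 2 * C - 7 : ℤ) : ℂ) = 0 := by push_cast; linear_combination h3 - B * r1 - C * r2
  have h7 : A - B + 2 * C - 7 = 0 := by exact_mod_cast h6
  omega

/-- expansion of the square sums -/
theorem expand {ι : Type*} (X : Finset ι) (a b : ι → ℤ) (e f : ℂ) :
    ∑ i ∈ X, ((a i : ℂ) + b i * e) * ((a i : ℂ) + b i * f) =
      ((∑ i ∈ X, a i * a i : ℤ) : ℂ) + ((∑ i ∈ X, a i * b i : ℤ) : ℂ) * (e + f) +
        ((∑ i ∈ X, b i * b i : ℤ) : ℂ) * (e * f) := by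
  push_cast
  rw [Finset.sum_mul, Finset.sum_mul, ← Finset.sum_add_distrib, ← Finset.sum_add_distrib]
  exact Finset.sum_congr rfl fun i _ => by ring

theorem expand_deg {ι : Type*} (X : Finset ι) (d : ι → ℕ) (a b : ι → ℤ) (e : ℂ) :
    ∑ i ∈ X, (d i : ℂ) * ((a i : ℂ) + b i * e) =
      ((∑ i ∈ X, (d i : ℤ) * a i : ℤ) : ℂ) + ((∑ i ∈ X, (d i : ℤ) * b i : ℤ) : ℂ) * e := by
  push_cast
  rw [Finset.sum_mul, ← Finset.sum_add_distrib]
  exact Finset.sum_congr rfl fun i _ => by ring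

/-- **The integral data of the columns.** -/
theorem exists_tab [Finite E] [Fintype (IrrCharacter E)] (h : Hyp E Z) (lam : Z →* ℂˣ) {x y z : E}
    (hx : orderOf x = 3) (hy : orderOf y = 5) (hz : orderOf z = 7) {ζ ξ : ℂ}
    (hζ5 : ζ ^ 5 = 1) (hζs : 1 + ζ + ζ ^ 2 + ζ ^ 3 + ζ ^ 4 = 0) (hζn : ζ + ζ ^ 4 ≠ ζ ^ 2 + ζ ^ 3)
    (hξ7 : ξ ^ 7 = 1) (hξs : 1 + ξ + ξ ^ 2 + ξ ^ 3 + ξ ^ 4 + ξ ^ 5 + ξ ^ 6 = 0)
    (hξn : ξ + ξ ^ 2 + ξ ^ 4 ≠ ξ ^ 3 + ξ ^ 5 + ξ ^ 6) :
    ∃ v s t σ τ : IrrCharacter E → ℤ,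
      Tab (mem lam) (fun χ : IrrCharacter E => charDegree (χ : E → ℂ)) v s t σ τ ∧
      (∀ χ : IrrCharacter E, (χ : E → ℂ) x = v χ) ∧
      (∀ χ : IrrCharacter E, (χ : E → ℂ) y = s χ + t χ * (ζ + ζ ^ 4) ∧
        (χ : E → ℂ) (y ^ 2) = s χ + t χ * (ζ ^ 2 + ζ ^ 3)) ∧
      (∀ χ : IrrCharacter E, (χ : E → ℂ) z = σ χ + τ χ * (ξ + ξ ^ 2 + ξ ^ 4) ∧
        (χ : E → ℂ) (z ^ 3) = σ χ + τ χ * (ξ ^ 3 + ξ ^ 5 + ξ ^ 6)) := by
  classical
  obtain ⟨π, hs, hk⟩ := h.quo
  have hf := finite_PSL3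
  have hd : ∀ χ : IrrCharacter E, (χ : E → ℂ) 1 = (charDegree (χ : E → ℂ) : ℂ) := fun χ =>
    H669.Basic.charDegree_eq χ.2
  choose v hv1 hv2 using fun χ : IrrCharacter E => val_three h hx (isIrr_isCharacter χ.2) (hd χ)
  choose s t hs1 hs2 hs3 hs4 hs5 using fun χ : IrrCharacter E => five h hy hζ5 hζs χ
  choose σ τ hσ1 hσ2 hσ3 hσ4 hσ5 using fun χ : IrrCharacter E => seven h hz hξ7 hξs χ
  refine ⟨v, s, t, σ, τ, ?_, hv1, fun χ => ⟨hs1 χ, hs2 χ⟩, fun χ => ⟨hσ1 χ, hσ2 χ⟩⟩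
  have o1 : Odd (orderOf (1 : E)) := by rw [orderOf_one]; decide
  have ox : Odd (orderOf x) := by rw [hx]; decide
  have oy : Odd (orderOf y) := by rw [hy]; decide
  have oz : Odd (orderOf z) := by rw [hz]; decide
  have hE : (mem lam : Finset (IrrCharacter E)) =
      Finset.univ.filter (fun χ : IrrCharacter E => Over Z lam (χ : E → ℂ)) := by
    unfold mem
    congr
  have c1 : Nat.card (centralizer ({π 1} : Set PSL3)) = 20160 := by
    rw [map_one, show centralizer ({1} : Set PSL3) = ⊤ by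
      ext g; simp [mem_centralizer_singleton_iff], card_top, card_PSL3]
  have cx : Nat.card (centralizer ({π x} : Set PSL3)) = 9 := card_cent_three (by rw [order_odd h hk ox, hx])
  have cy : ∀ k, orderOf (y ^ k) = 5 → Nat.card (centralizer ({π (y ^ k)} : Set PSL3)) = 5 := fun k hk' =>
    BpSpor.LFour.card_five (by rw [order_odd h hk (odd_pow oy k), hk'])
  have cz : ∀ k, orderOf (z ^ k) = 7 → Nat.card (centralizer ({π (z ^ k)} : Set PSL3)) = 7 := fun k hk' =>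
    BpSpor.LFour.card_seven (by rw [order_odd h hk (odd_pow oz k), hk'])
  have hy2 : orderOf (y ^ 2) = 5 := by rw [orderOf_pow, hy]; norm_num
  have hz3 : orderOf (z ^ 3) = 7 := by rw [orderOf_pow, hz]; norm_num
  have n1 : ∀ g : E, g ≠ 1 → ¬ IsConj 1 g := fun g hg hc => by
    obtain ⟨c, hc⟩ := isConj_iff.1 hc
    exact hg (by rw [← hc]; group)
  have ne1 : ∀ g : E, 1 < orderOf g → g ≠ 1 := by
    rintro g hg rfl
    rw [orderOf_one] at hg
    exact lt_irrefl _ hg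
  have h5 := conj_five h hy
  have h7 := conj_seven h hz
  -- the sums
  have S11 := (orth h hs hk lam o1 o1 c1).1 (IsConj.refl 1)
  have Sxx := (orth h hs hk lam ox ox cx).1 (IsConj.refl x)
  have S1x := (orth h hs hk lam o1 ox c1).2 (n1 x (ne1 x (by rw [hx]; norm_num)))
  have S1y := (orth h hs hk lam o1 oy c1).2 (n1 y (ne1 y (by rw [hy]; norm_num)))
  have S1y2 := (orth h hs hk lam o1 (odd_pow oy 2) c1).2 (n1 _ (ne1 _ (by rw [hy2]; norm_num)))
  have S1z := (orth h hs hk lam o1 oz c1).2 (n1 z (ne1 z (by rw [hz]; norm_num)))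
  have S1z3 := (orth h hs hk lam o1 (odd_pow oz 3) c1).2 (n1 _ (ne1 _ (by rw [hz3]; norm_num)))
  have Syy := (orth h hs hk lam oy oy (by simpa using cy 1 (by rw [pow_one]; exact hy))).1 (IsConj.refl y)
  have Sy2 := (orth h hs hk lam (odd_pow oy 2) (odd_pow oy 2) (cy 2 hy2)).1 (IsConj.refl _)
  have Syy2 := (orth h hs hk lam oy (odd_pow oy 2) (by simpa using cy 1 (by rw [pow_one]; exact hy))).2 h5.2.1
  have Szz := (orth h hs hk lam oz oz (by simpa using cz 1 (by rw [pow_one]; exact hz))).1 (IsConj.refl z)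
  have Szz3 := (orth h hs hk lam oz (odd_pow oz 3) (by simpa using cz 1 (by rw [pow_one]; exact hz))).2 h7.2.2.2.1
  have Sz3z := (orth h hs hk lam (odd_pow oz 3) oz (cz 3 hz3)).2 (fun hc => h7.2.2.2.1 hc.symm)
  rw [← hE] at *
  simp only [hd, hv1, hs3, hs4, hσ3, hσ4, map_intCast, map_natCast] at S11 Sxx S1x S1y S1y2 S1z S1z3 Syy Sy2 Syy2 Szz Szz3 Sz3z
  simp only [hs1, hs2, hσ1, hσ2] at S1y S1y2 S1z S1z3 Syy Sy2 Syy2 Szz Szz3 Sz3z
  rw [expand_deg] at S1y S1y2 S1z S1z3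
  rw [expand] at Syy Sy2 Syy2 Szz Szz3 Sz3z
  have r1 : (ζ + ζ ^ 4) + (ζ ^ 2 + ζ ^ 3) = -1 := by linear_combination hζs
  have r2 : (ζ + ζ ^ 4) * (ζ ^ 2 + ζ ^ 3) = -1 := by linear_combination (ζ + ζ ^ 2) * hζ5 + hζs
  have q1 : (ξ + ξ ^ 2 + ξ ^ 4) + (ξ ^ 3 + ξ ^ 5 + ξ ^ 6) = -1 := by linear_combination hξs
  have q2 : (ξ + ξ ^ 2 + ξ ^ 4) * (ξ ^ 3 + ξ ^ 5 + ξ ^ 6) = 2 := by
    linear_combination (ξ + ξ ^ 2 + ξ ^ 3 + 3) * hξ7 + hξs
  obtain ⟨k1, k2, k3⟩ := quad_five (A := ∑ i ∈ mem lam, s i * s i) (B := ∑ i ∈ mem lam, s i * t i)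
    (C := ∑ i ∈ mem lam, t i * t i) hζn r1 r2 (by linear_combination Syy) (by linear_combination Sy2)
    (by linear_combination Syy2)
  obtain ⟨l1, l2, l3⟩ := quad_seven (A := ∑ i ∈ mem lam, σ i * σ i) (B := ∑ i ∈ mem lam, σ i * τ i)
    (C := ∑ i ∈ mem lam, τ i * τ i) hξn q1 q2 (by linear_combination Szz3) (by linear_combination Sz3z)
    (by linear_combination Szz)
  obtain ⟨m2, m1⟩ := sep hζn S1y S1y2
  obtain ⟨m4, m3⟩ := sep hξn.symm S1z S1z3
  refine ⟨fun χ _ => ?_, fun χ _ => hv2 χ, fun χ _ => hs5 χ, fun χ _ => hσ5 χ, by exact_mod_cast S11,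
    by exact_mod_cast Sxx, by exact_mod_cast S1x, k1, k2, k3, m2, m1, l1, l2, l3, m4, m3⟩
  have h1 : Z.index = 20160 := by
    rw [← hk, index_ker, MonoidHom.range_eq_top.2 hs, card_top, card_PSL3]
  rw [← h1]
  exact (H669.Basic.charDegree_dvd_index_center χ.2).trans (index_dvd_of_le h.cen)

end

end Cfsg.Agent.H407.TI

end

-- merged: L34Main
section

/-!
# Central extensions of `L₃(4)` by `2`-groups: the tables over a linear character of the centre (task 5079)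

Setting: `Hyp E Z` (`E` perfect, `Z` a central `2`-subgroup, `E / Z ≅ PSL(3,4)`; `Hyp.of_equiv`), `lam : Z →* ℂˣ`,
`mem lam` = the irreducible characters over `lam` (`mem_mem`).
* `table_one`, `table_ne` : the multiset of the degrees for `lam = 1`, `lam ≠ 1`;
* `card_six` : six members of degree prime to nine;
* `value_three`, `value_five`, `value_seven` : the values at elements of order `3`, `5`, `7` from the degree;
* `pair_five`, `pair_seven` : the exceptional pairs.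
-/

set_option autoImplicit false

namespace Cfsg.Agent.H407.TI

open Subgroup Cfsg Cfsg.Agent.Characters.Core
open scoped ComplexConjugate

universe u

variable {E : Type u} [Group E] {Z : Subgroup E}

/-- the multiset of the degrees over `lam` -/
noncomputable def degs [Fintype (IrrCharacter E)] (lam : Z →* ℂˣ) : Multiset ℕ :=
  (mem lam).val.map fun χ : IrrCharacter E => charDegree (χ : E → ℂ)

theorem parity [Finite E] [Fintype (IrrCharacter E)] (h : Hyp E Z) {lam : Z →* ℂˣ} (hl : lam ≠ 1)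
    {χ : IrrCharacter E} (hχ : χ ∈ mem lam) : 2 ∣ charDegree (χ : E → ℂ) := by
  by_contra h2
  apply hl
  ext z
  have h1 := pow_degree h.perf χ.2 h.cen (mem_mem.1 hχ) z
  obtain ⟨k, hk⟩ := h.two z
  have h3 : lam z ^ 2 ^ k = 1 := by rw [← map_pow, hk, map_one]
  have h4 : lam z ^ charDegree (χ : E → ℂ) = 1 := by
    ext
    push_cast
    exact h1
  have h5 : orderOf (lam z) ∣ 1 := by
    have h6 : Nat.Coprime (2 ^ k) (charDegree (χ : E → ℂ)) :=
      Nat.Coprime.pow_left k ((Nat.Prime.coprime_iff_not_dvd Nat.prime_two).2 h2)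
    rw [← h6]
    exact Nat.dvd_gcd (orderOf_dvd_of_pow_eq_one h3) (orderOf_dvd_of_pow_eq_one h4)
  rw [orderOf_eq_one_iff.1 (Nat.dvd_one.1 h5)]
  rfl

theorem one_mem [Finite E] [Fintype (IrrCharacter E)] :
    (⟨1, isIrr_one⟩ : IrrCharacter E) ∈ mem (1 : Z →* ℂˣ) := by
  rw [mem_mem]
  intro z g
  simp

theorem degs_mem [Finite E] [Fintype (IrrCharacter E)] (h : Hyp E Z) (lam : Z →* ℂˣ) : degs lam ∈ tabs := by
  obtain ⟨x, hx⟩ := exists_order h Nat.prime_three (by norm_num)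
  obtain ⟨y, hy⟩ := exists_order h (p := 5) (by norm_num) (by norm_num)
  obtain ⟨z, hz⟩ := exists_order h (p := 7) (by norm_num) (by norm_num)
  obtain ⟨ζ, a1, a2, a3⟩ := exists_five
  obtain ⟨ξ, b1, b2, b3⟩ := exists_seven
  obtain ⟨v, s, t, σ, τ, hT, -⟩ := exists_tab h lam hx hy hz a1 a2 a3 b1 b2 b3
  refine hT.table ?_
  by_cases hl : lam = 1
  · subst hl
    exact Or.inl ⟨_, one_mem, H669.Basic.charDegree_of_natCast (by simp)⟩
  · exact Or.inr fun χ hχ => parity h hl hχ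

theorem table_one [Finite E] [Fintype (IrrCharacter E)] (h : Hyp E Z) :
    degs (1 : Z →* ℂˣ) = {1, 20, 35, 35, 35, 45, 45, 63, 63, 64} := by
  have h1 := degs_mem h (1 : Z →* ℂˣ)
  have h2 : 1 ∈ degs (1 : Z →* ℂˣ) := by
    unfold degs
    rw [Multiset.mem_map]
    exact ⟨_, one_mem, H669.Basic.charDegree_of_natCast (by simp)⟩
  simp only [tabs, Finset.mem_insert, Finset.mem_singleton] at h1
  rcases h1 with h1 | h1 | h1 | h1
  · exact h1
  all_goals
    rw [h1] at h2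
    exact absurd h2 (by decide)

theorem table_ne [Finite E] [Fintype (IrrCharacter E)] (h : Hyp E Z) {lam : Z →* ℂˣ} (hl : lam ≠ 1) :
    degs lam = {8, 8, 56, 64, 80, 80} ∨ degs lam = {20, 28, 28, 36, 64, 80, 80} ∨
      degs lam = {10, 10, 28, 28, 36, 64, 70, 90} := by
  have h1 := degs_mem h lam
  simp only [tabs, Finset.mem_insert, Finset.mem_singleton] at h1
  rcases h1 with h1 | h1 | h1 | h1
  · exfalso
    have h2 : 1 ∈ degs lam := by rw [h1]; decide
    unfold degs at h2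
    rw [Multiset.mem_map] at h2
    obtain ⟨χ, hχ, h3⟩ := h2
    have := parity h hl hχ
    rw [h3] at this
    omega
  · exact Or.inr (Or.inr h1)
  · exact Or.inl h1
  · exact Or.inr (Or.inl h1)

/-- counting members by their degrees -/
theorem card_filter [Fintype (IrrCharacter E)] (lam : Z →* ℂˣ) (P : ℕ → Prop) [DecidablePred P] :
    Nat.card {χ : IrrCharacter E // Over Z lam (χ : E → ℂ) ∧ P (charDegree (χ : E → ℂ))} =
      (degs lam).countP P := by
  classical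
  unfold degs
  rw [Multiset.countP_map, Nat.card_eq_fintype_card, Fintype.card_subtype, Finset.card_def]
  congr 1
  rw [← Finset.filter_val]
  congr 1
  ext χ
  simp only [Finset.mem_filter, Finset.mem_univ, true_and, mem_mem]

/-- a property of the degrees which holds for the four tables -/
theorem card_of_tabs [Finite E] [Fintype (IrrCharacter E)] (h : Hyp E Z) (lam : Z →* ℂˣ) (P : ℕ → Prop)
    [DecidablePred P] {n : ℕ} (hn : ∀ T ∈ tabs, T.countP P = n) :
    Nat.card {χ : IrrCharacter E // Over Z lam (χ : E → ℂ) ∧ P (charDegree (χ : E → ℂ))} = n := by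
  rw [card_filter]
  exact hn _ (degs_mem h lam)

/-- **Six members of degree not divisible by nine.** -/
theorem card_six [Finite E] (h : Hyp E Z) (lam : Z →* ℂˣ) :
    Nat.card {χ : IrrCharacter E // Over Z lam (χ : E → ℂ) ∧ ¬ 9 ∣ charDegree (χ : E → ℂ)} = 6 := by
  have := finite_irr (G := E)
  have := Fintype.ofFinite (IrrCharacter E)
  exact card_of_tabs h lam (fun d => ¬ 9 ∣ d) (by decide +kernel)

theorem card_two [Finite E] (h : Hyp E Z) (lam : Z →* ℂˣ) :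
    Nat.card {χ : IrrCharacter E // Over Z lam (χ : E → ℂ) ∧ (charDegree (χ : E → ℂ) % 9 = 2 ∨
      charDegree (χ : E → ℂ) % 9 = 7)} = 1 := by
  have := finite_irr (G := E)
  have := Fintype.ofFinite (IrrCharacter E)
  exact card_of_tabs h lam (fun d => d % 9 = 2 ∨ d % 9 = 7) (by decide +kernel)

theorem card_one [Finite E] (h : Hyp E Z) (lam : Z →* ℂˣ) :
    Nat.card {χ : IrrCharacter E // Over Z lam (χ : E → ℂ) ∧ (charDegree (χ : E → ℂ) % 9 = 1 ∨
      charDegree (χ : E → ℂ) % 9 = 8)} = 5 := by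
  have := finite_irr (G := E)
  have := Fintype.ofFinite (IrrCharacter E)
  exact card_of_tabs h lam (fun d => d % 9 = 1 ∨ d % 9 = 8) (by decide +kernel)

theorem mem_degs [Fintype (IrrCharacter E)] {lam : Z →* ℂˣ} {χ : IrrCharacter E} (hχ : Over Z lam (χ : E → ℂ)) :
    charDegree (χ : E → ℂ) ∈ degs lam := by
  unfold degs
  rw [Multiset.mem_map]
  exact ⟨χ, mem_mem.2 hχ, rfl⟩

/-- **The value at an element of order three.** -/
theorem value_three [Finite E] (h : Hyp E Z) {lam : Z →* ℂˣ} {x : E} (hx : orderOf x = 3) {χ : IrrCharacter E}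
    (hχ : Over Z lam (χ : E → ℂ)) : ∃ v : ℤ, (χ : E → ℂ) x = v ∧ (9 : ℤ) ∣ (charDegree (χ : E → ℂ) : ℤ) - v ∧
      (v = 0 ∨ v = 1 ∨ v = -1 ∨ v = 2 ∨ v = -2) := by
  have := finite_irr (G := E)
  have := Fintype.ofFinite (IrrCharacter E)
  obtain ⟨y, hy⟩ := exists_order h (p := 5) (by norm_num) (by norm_num)
  obtain ⟨z, hz⟩ := exists_order h (p := 7) (by norm_num) (by norm_num)
  obtain ⟨ζ, a1, a2, a3⟩ := exists_five
  obtain ⟨ξ, b1, b2, b3⟩ := exists_seven
  obtain ⟨v, s, t, σ, τ, hT, hv, -⟩ := exists_tab h lam hx hy hz a1 a2 a3 b1 b2 b3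
  exact ⟨v χ, hv χ, hT.h9 χ (mem_mem.2 hχ), hT.v_mem (mem_mem.2 hχ)⟩

theorem value_three_zero [Finite E] (h : Hyp E Z) {lam : Z →* ℂˣ} {x : E} (hx : orderOf x = 3)
    {χ : IrrCharacter E} (hχ : Over Z lam (χ : E → ℂ)) : (χ : E → ℂ) x = 0 ↔ 9 ∣ charDegree (χ : E → ℂ) := by
  obtain ⟨v, h1, h2, h3⟩ := value_three h hx hχ
  rw [h1, Int.cast_eq_zero]
  omega

theorem value_three_two [Finite E] (h : Hyp E Z) {lam : Z →* ℂˣ} {x : E} (hx : orderOf x = 3)
    {χ : IrrCharacter E} (hχ : Over Z lam (χ : E → ℂ)) : ((χ : E → ℂ) x = 2 ∨ (χ : E → ℂ) x = -2) ↔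
      (charDegree (χ : E → ℂ) % 9 = 2 ∨ charDegree (χ : E → ℂ) % 9 = 7) := by
  obtain ⟨v, h1, h2, h3⟩ := value_three h hx hχ
  have h4 : (χ : E → ℂ) x = 2 ↔ v = 2 := by rw [h1]; exact_mod_cast Iff.rfl
  have h5 : (χ : E → ℂ) x = -2 ↔ v = -2 := by rw [h1]; exact_mod_cast Iff.rfl
  rw [h4, h5]
  omega

theorem value_three_one [Finite E] (h : Hyp E Z) {lam : Z →* ℂˣ} {x : E} (hx : orderOf x = 3)
    {χ : IrrCharacter E} (hχ : Over Z lam (χ : E → ℂ)) : ((χ : E → ℂ) x = 1 ∨ (χ : E → ℂ) x = -1) ↔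
      (charDegree (χ : E → ℂ) % 9 = 1 ∨ charDegree (χ : E → ℂ) % 9 = 8) := by
  obtain ⟨v, h1, h2, h3⟩ := value_three h hx hχ
  have h4 : (χ : E → ℂ) x = 1 ↔ v = 1 := by rw [h1]; exact_mod_cast Iff.rfl
  have h5 : (χ : E → ℂ) x = -1 ↔ v = -1 := by rw [h1]; exact_mod_cast Iff.rfl
  rw [h4, h5]
  omega

/-- six members do not vanish at `x` -/
theorem card_ne_zero [Finite E] (h : Hyp E Z) (lam : Z →* ℂˣ) {x : E} (hx : orderOf x = 3) :
    Nat.card {χ : IrrCharacter E // Over Z lam (χ : E → ℂ) ∧ (χ : E → ℂ) x ≠ 0} = 6 := by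
  refine Eq.trans ?_ (card_six h lam)
  refine Nat.card_congr (Equiv.subtypeEquivRight fun χ => ?_)
  exact and_congr_right fun hχ => not_congr (value_three_zero h hx hχ)

/-- one member has the value `±2` -/
theorem card_val_two [Finite E] (h : Hyp E Z) (lam : Z →* ℂˣ) {x : E} (hx : orderOf x = 3) :
    Nat.card {χ : IrrCharacter E // Over Z lam (χ : E → ℂ) ∧ ((χ : E → ℂ) x = 2 ∨ (χ : E → ℂ) x = -2)} = 1 := by
  refine Eq.trans ?_ (card_two h lam)
  refine Nat.card_congr (Equiv.subtypeEquivRight fun χ => ?_)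
  exact and_congr_right fun hχ => value_three_two h hx hχ

/-- five members have the value `±1` -/
theorem card_val_one [Finite E] (h : Hyp E Z) (lam : Z →* ℂˣ) {x : E} (hx : orderOf x = 3) :
    Nat.card {χ : IrrCharacter E // Over Z lam (χ : E → ℂ) ∧ ((χ : E → ℂ) x = 1 ∨ (χ : E → ℂ) x = -1)} = 5 := by
  refine Eq.trans ?_ (card_one h lam)
  refine Nat.card_congr (Equiv.subtypeEquivRight fun χ => ?_)
  exact and_congr_right fun hχ => value_three_one h hx hχ

/-- **The exceptional pair at an element of order five.** -/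
theorem pair_five [Finite E] (h : Hyp E Z) (lam : Z →* ℂˣ) {y : E} (hy : orderOf y = 5) :
    ∃ χ χ' : IrrCharacter E, Over Z lam (χ : E → ℂ) ∧ Over Z lam (χ' : E → ℂ) ∧ χ ≠ χ' ∧
      charDegree (χ : E → ℂ) = charDegree (χ' : E → ℂ) ∧
      (charDegree (χ : E → ℂ) % 5 = 2 ∨ charDegree (χ : E → ℂ) % 5 = 3) ∧
      (χ : E → ℂ) y ≠ (χ' : E → ℂ) y ∧ (χ : E → ℂ) (y ^ 2) = (χ' : E → ℂ) y ∧
      (χ' : E → ℂ) (y ^ 2) = (χ : E → ℂ) y ∧
      ∀ ψ : IrrCharacter E, Over Z lam (ψ : E → ℂ) → ψ ≠ χ → ψ ≠ χ' →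
        (ψ : E → ℂ) (y ^ 2) = (ψ : E → ℂ) y ∧ (ψ : E → ℂ) y = sg 5 (charDegree (ψ : E → ℂ)) := by
  have := finite_irr (G := E)
  have := Fintype.ofFinite (IrrCharacter E)
  obtain ⟨x, hx⟩ := exists_order h Nat.prime_three (by norm_num)
  obtain ⟨z, hz⟩ := exists_order h (p := 7) (by norm_num) (by norm_num)
  obtain ⟨ζ, a1, a2, a3⟩ := exists_five
  obtain ⟨ξ, b1, b2, b3⟩ := exists_seven
  obtain ⟨v, s, t, σ, τ, hT, -, hv, -⟩ := exists_tab h lam hx hy hz a1 a2 a3 b1 b2 b3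
  obtain ⟨e, he, f, hf, hne, hd, h1, h2, h3, h4, h5, -⟩ := exc_pair (fun i hi => hT.st_mem hi)
    (fun i hi => hT.pos hi) hT.st hT.tt hT.dt
  have h6 := hT.st_mem he
  have h7 := hT.h5 e he
  rw [h2] at h6 h7
  simp only [Finset.mem_insert, Finset.mem_singleton, Prod.mk.injEq] at h6
  have r1 : (ζ + ζ ^ 4) + (ζ ^ 2 + ζ ^ 3) = -1 := by linear_combination a2
  refine ⟨e, f, mem_mem.1 he, mem_mem.1 hf, hne, hd, by omega, ?_, ?_, ?_, ?_⟩
  · rw [(hv e).1, (hv f).1, h1, h2, h3]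
    intro hc
    have h8 : (t e : ℂ) * (1 + 2 * (ζ + ζ ^ 4)) = 0 := by push_cast at hc; linear_combination hc
    rcases mul_eq_zero.1 h8 with h8 | h8
    · exact h4 (by exact_mod_cast h8)
    · exact a3 (by linear_combination h8 - r1)
  · rw [(hv e).2, (hv f).1, h1, h2, h3]
    push_cast
    linear_combination (t e : ℂ) * r1
  · rw [(hv e).1, (hv f).2, h1, h2, h3]
    push_cast
    linear_combination - (t e : ℂ) * r1
  · intro ψ hψ h8 h9
    have h10 := h5 ψ (mem_mem.2 hψ) h8 h9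
    have h11 := hT.st_mem (mem_mem.2 hψ)
    have h12 := hT.h5 ψ (mem_mem.2 hψ)
    rw [(hv ψ).1, (hv ψ).2, h10]
    rw [h10] at h11 h12
    simp only [Finset.mem_insert, Finset.mem_singleton, Prod.mk.injEq] at h11
    refine ⟨by push_cast; ring, ?_⟩
    have h13 : s ψ = sg 5 (charDegree (ψ : E → ℂ)) := by
      unfold sg
      have h14 : s ψ = 0 ∨ s ψ = 1 ∨ s ψ = -1 := by omega
      rcases h14 with h14 | h14 | h14 <;> rw [h14] at h12 ⊢ <;> split_ifs <;> omega
    rw [h13]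
    push_cast
    ring

/-- **The exceptional pair at an element of order seven.** -/
theorem pair_seven [Finite E] (h : Hyp E Z) (lam : Z →* ℂˣ) {z : E} (hz : orderOf z = 7) :
    ∃ χ χ' : IrrCharacter E, Over Z lam (χ : E → ℂ) ∧ Over Z lam (χ' : E → ℂ) ∧ χ ≠ χ' ∧
      charDegree (χ : E → ℂ) = charDegree (χ' : E → ℂ) ∧
      (charDegree (χ : E → ℂ) % 7 = 3 ∨ charDegree (χ : E → ℂ) % 7 = 4) ∧
      (χ : E → ℂ) z ≠ (χ' : E → ℂ) z ∧ (χ : E → ℂ) z⁻¹ = (χ' : E → ℂ) z ∧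
      (χ' : E → ℂ) z⁻¹ = (χ : E → ℂ) z ∧
      ∀ ψ : IrrCharacter E, Over Z lam (ψ : E → ℂ) → ψ ≠ χ → ψ ≠ χ' →
        (ψ : E → ℂ) z⁻¹ = (ψ : E → ℂ) z ∧ (ψ : E → ℂ) z = sg 7 (charDegree (ψ : E → ℂ)) := by
  have := finite_irr (G := E)
  have := Fintype.ofFinite (IrrCharacter E)
  obtain ⟨x, hx⟩ := exists_order h Nat.prime_three (by norm_num)
  obtain ⟨y, hy⟩ := exists_order h (p := 5) (by norm_num) (by norm_num)
  obtain ⟨ζ, a1, a2, a3⟩ := exists_five
  obtain ⟨ξ, b1, b2, b3⟩ := exists_seven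
  obtain ⟨v, s, t, σ, τ, hT, -, -, hv⟩ := exists_tab h lam hx hy hz a1 a2 a3 b1 b2 b3
  obtain ⟨e, he, f, hf, hne, hd, h1, h2, h3, h4, h5, -⟩ := exc_pair (fun i hi => hT.ST_mem hi)
    (fun i hi => hT.pos hi) hT.ST hT.TT hT.dT
  have h6 := hT.ST_mem he
  have h7 := hT.h7 e he
  rw [h2] at h6 h7
  simp only [Finset.mem_insert, Finset.mem_singleton, Prod.mk.injEq] at h6
  have r1 : (ξ + ξ ^ 2 + ξ ^ 4) + (ξ ^ 3 + ξ ^ 5 + ξ ^ 6) = -1 := by linear_combination b2
  have hinv : ∀ ψ : IrrCharacter E, (ψ : E → ℂ) z⁻¹ = (ψ : E → ℂ) (z ^ 3) := by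
    intro ψ
    obtain ⟨-, -, -, -, h8, -⟩ := seven h hz b1 b2 ψ
    rw [isCharacter_apply_inv (isIrr_isCharacter ψ.2), h8]
  refine ⟨e, f, mem_mem.1 he, mem_mem.1 hf, hne, hd, by omega, ?_, ?_, ?_, ?_⟩
  · rw [(hv e).1, (hv f).1, h1, h2, h3]
    intro hc
    have h8 : (τ e : ℂ) * (1 + 2 * (ξ + ξ ^ 2 + ξ ^ 4)) = 0 := by push_cast at hc; linear_combination hc
    rcases mul_eq_zero.1 h8 with h8 | h8
    · exact h4 (by exact_mod_cast h8)
    · exact b3 (by linear_combination h8 - r1)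
  · rw [hinv, (hv e).2, (hv f).1, h1, h2, h3]
    push_cast
    linear_combination (τ e : ℂ) * r1
  · rw [hinv, (hv e).1, (hv f).2, h1, h2, h3]
    push_cast
    linear_combination - (τ e : ℂ) * r1
  · intro ψ hψ h8 h9
    have h10 := h5 ψ (mem_mem.2 hψ) h8 h9
    have h11 := hT.ST_mem (mem_mem.2 hψ)
    have h12 := hT.h7 ψ (mem_mem.2 hψ)
    rw [hinv, (hv ψ).1, (hv ψ).2, h10]
    rw [h10] at h11 h12
    simp only [Finset.mem_insert, Finset.mem_singleton, Prod.mk.injEq] at h11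
    refine ⟨by push_cast; ring, ?_⟩
    have h13 : σ ψ = sg 7 (charDegree (ψ : E → ℂ)) := by
      unfold sg
      have h14 : σ ψ = 0 ∨ σ ψ = 1 ∨ σ ψ = -1 := by omega
      rcases h14 with h14 | h14 | h14 <;> rw [h14] at h12 ⊢ <;> split_ifs <;> omega
    rw [h13]
    push_cast
    ring

end Cfsg.Agent.H407.TI

end
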