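import Mathlib
import Cfsg.Agent.H407.TI.L34
import Cfsg.Agent.H604.FS
import Cfsg.Agent.H794.LThreeFourIdx

/-!
# Central extensions of `L₃(4)` by `2`-groups: the table over a linear character of order two

`table_two` : if `lam ^ 2 = 1`, `lam ≠ 1`, the degrees are `10, 10, 28, 28, 36, 64, 70, 90` (Frobenius-Schur count).
-/

set_option autoImplicit false

namespace Cfsg.Agent.H407.TI

open Subgroup Cfsg Cfsg.Agent.Characters.Core
open Cfsg.Agent.SporadicA.FieldFour Cfsg.Agent.ONType.Psl Cfsg.Agent.ONType.PslCard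
open Cfsg.Agent.CpAut.SmallP.PslFour (finite_PSL3)
open Cfsg.Agent.H604.FS
open scoped ComplexConjugate

universe u

/-- the involution of `PSL(3,4)` -/
def tvl : PSL3 := (QuotientGroup.mk Cfsg.Agent.H794.LThreeFour.tv : PSL3)

theorem order_tvl : orderOf tvl = 2 := Cfsg.Agent.H794.LThreeFour.orderOf_tv F4.card_eq

/-- at least 315 involutions -/
theorem card_inv : 315 ≤ Nat.card {a : PSL3 // a ≠ 1 ∧ a * a = 1} := by
  have hf := finite_PSL3
  have hfc : Finite (ConjAct PSL3) := hf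
  have h0 : 315 ≤ (centralizer ({tvl} : Set PSL3)).index := Cfsg.Agent.H794.LThreeFour.index_tv F4.card_eq card_PSL3
  have h2 := MulAction.index_stabilizer (ConjAct PSL3) tvl
  have h3 := (MulAction.stabilizer (ConjAct PSL3) tvl).card_mul_index
  have h4 := Subgroup.nat_card_centralizer_nat_card_stabilizer tvl
  have h5 : Nat.card (ConjAct PSL3) = 20160 := card_PSL3
  have h6 := (centralizer ({tvl} : Set PSL3)).card_mul_index
  rw [card_PSL3] at h6
  rw [h5, ← h4] at h3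
  have h7 : (centralizer ({tvl} : Set PSL3)).index = (MulAction.orbit (ConjAct PSL3) tvl).ncard := by
    rw [← h2]
    exact Nat.eq_of_mul_eq_mul_left Nat.card_pos (h6.trans h3.symm)
  rw [h7] at h0
  refine h0.trans ?_
  rw [← Nat.card_coe_set_eq]
  refine Nat.card_le_card_of_injective (fun a => ⟨a.1, ?_⟩) (fun a b h => Subtype.ext (congrArg (fun t => t.1) h))
  have h8 := a.2
  rw [ConjAct.mem_orbit_conjAct] at h8
  obtain ⟨c, hc⟩ := isConj_iff.1 h8.symm
  have ho := order_tvl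
  have h9 : tvl * tvl = 1 := by
    have := pow_orderOf_eq_one tvl
    rw [ho, pow_two] at this
    exact this
  refine ⟨fun h1 => ?_, ?_⟩
  · have : tvl = 1 := by
      have h10 : tvl = c⁻¹ * a.1 * c := by rw [← hc]; group
      rw [h10, h1]; group
    rw [this, orderOf_one] at ho
    omega
  · rw [← hc]
    calc c * tvl * c⁻¹ * (c * tvl * c⁻¹) = c * (tvl * tvl) * c⁻¹ := by group
      _ = 1 := by rw [h9]; group

theorem conj_inv {a : PSL3} (ha : a ≠ 1) (ha2 : a * a = 1) : IsConj tvl a := by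
  have f2 : Fact (Nat.Prime 2) := ⟨Nat.prime_two⟩
  exact S0820.result F4.card_eq _ _ order_tvl (orderOf_eq_prime (by rw [pow_two]; exact ha2) ha)

section

variable {E : Type u} [Group E] {Z : Subgroup E}

/-- the extension by zero of `lam⁻¹` -/
noncomputable def ell (lam : Z →* ℂˣ) (g : E) : ℂ := by
  classical exact if h : g ∈ Z then (((lam ⟨g, h⟩)⁻¹ : ℂˣ) : ℂ) else 0

theorem ell_of_mem (lam : Z →* ℂˣ) {g : E} (h : g ∈ Z) : ell lam g = (((lam ⟨g, h⟩)⁻¹ : ℂˣ) : ℂ) := by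
  unfold ell
  rw [dif_pos h]

theorem ell_of_notMem (lam : Z →* ℂˣ) {g : E} (h : g ∉ Z) : ell lam g = 0 := by
  unfold ell
  rw [dif_neg h]

/-- **The Frobenius-Schur count over `lam`.** -/
theorem fs_over [Fintype E] [Fintype (IrrCharacter E)] (hZ : Z ≤ center E) (lam : Z →* ℂˣ) :
    (Nat.card Z : ℂ) * ∑ χ ∈ mem lam, (ind χ : ℂ) * charDegree (χ : E → ℂ) = ∑ y : E, ell lam (y * y) := by
  classical
  have h1 : ∀ u : Z, ((((lam u)⁻¹ : ℂˣ)) : ℂ) * (Nat.card {y : E // y * y = u} : ℂ) =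
      ∑ y : E, if y * y = u then ell lam (y * y) else 0 := by
    intro u
    rw [Nat.card_eq_fintype_card, Fintype.card_subtype, Finset.card_filter, Nat.cast_sum, Finset.mul_sum]
    refine Finset.sum_congr rfl fun y _ => ?_
    split_ifs with h
    · rw [Nat.cast_one, mul_one, h, ell_of_mem lam u.2]
    · rw [Nat.cast_zero, mul_zero]
  have h2 : ∑ u : Z, ((((lam u)⁻¹ : ℂˣ)) : ℂ) * (Nat.card {y : E // y * y = u} : ℂ) = ∑ y : E, ell lam (y * y) := by
    rw [Finset.sum_congr rfl fun u _ => h1 u, Finset.sum_comm]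
    refine Finset.sum_congr rfl fun y _ => ?_
    by_cases hy : y * y ∈ Z
    · rw [Finset.sum_eq_single (⟨y * y, hy⟩ : Z), if_pos rfl]
      · intro u _ hu
        rw [if_neg]
        intro h
        exact hu (Subtype.ext h.symm)
      · intro h; exact absurd (Finset.mem_univ _) h
    · rw [ell_of_notMem lam hy]
      exact Finset.sum_eq_zero fun u _ => by split_ifs <;> rfl
  rw [← h2]
  simp_rw [← sum_ind]
  rw [Finset.sum_congr rfl fun u _ => Finset.mul_sum _ _ _, Finset.sum_comm]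
  have h3 : ∀ χ : IrrCharacter E, ∑ u : Z, ((((lam u)⁻¹ : ℂˣ)) : ℂ) * ((ind χ : ℂ) * (χ : E → ℂ) u) =
      if Over Z lam (χ : E → ℂ) then (Nat.card Z : ℂ) * ((ind χ : ℂ) * charDegree (χ : E → ℂ)) else 0 := by
    intro χ
    have h4 := sum_lam hZ lam χ.2 1
    simp only [mul_one] at h4
    rw [H669.Basic.charDegree_eq χ.2] at h4
    have h5 : ∀ u : Z, ((((lam u)⁻¹ : ℂˣ)) : ℂ) * ((ind χ : ℂ) * (χ : E → ℂ) u) =
        (ind χ : ℂ) * (((((lam u)⁻¹ : ℂˣ)) : ℂ) * (χ : E → ℂ) u) := fun u => by ring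
    rw [Finset.sum_congr rfl fun u _ => h5 u, ← Finset.mul_sum, h4]
    split_ifs <;> ring
  rw [Finset.sum_congr rfl fun χ _ => h3 χ, ← Finset.sum_filter, Finset.mul_sum]
  refine Finset.sum_congr ?_ fun _ _ => rfl
  unfold mem
  congr

/-- the squares in the centre -/
theorem sum_ell [Fintype E] (h : Hyp E Z) {lam : Z →* ℂˣ} (h2 : ∀ z, lam z * lam z = 1) :
    ∃ (ε : ℤ) (I : ℕ), (ε = 1 ∨ ε = -1) ∧ 315 ≤ I ∧
      ∑ y : E, ell lam (y * y) = (Nat.card Z : ℂ) * (1 + ε * I) := by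
  classical
  obtain ⟨π, hs, hk⟩ := h.quo
  have hf := finite_PSL3
  have := Fintype.ofFinite PSL3
  obtain ⟨y₀, hy₀⟩ := hs tvl
  have ht2 : tvl * tvl = 1 := by
    have := pow_orderOf_eq_one tvl
    rw [order_tvl, pow_two] at this
    exact this
  have hmem : ∀ g : E, g ∈ Z ↔ π g = 1 := fun g => by rw [← hk, MonoidHom.mem_ker]
  have hy0 : y₀ * y₀ ∈ Z := by rw [hmem, map_mul, hy₀, ht2]
  set w : ℂ := (((lam ⟨y₀ * y₀, hy0⟩)⁻¹ : ℂˣ) : ℂ) with hw
  have hww : w * w = 1 := by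
    rw [hw, ← Units.val_mul, ← mul_inv, h2, inv_one, Units.val_one]
  obtain ⟨ε, hε, hεw⟩ : ∃ ε : ℤ, (ε = 1 ∨ ε = -1) ∧ w = ε := by
    rcases mul_self_eq_one_iff.1 hww with h1 | h1
    · exact ⟨1, Or.inl rfl, by rw [h1]; norm_num⟩
    · exact ⟨-1, Or.inr rfl, by rw [h1]; norm_num⟩
  refine ⟨ε, Nat.card {a : PSL3 // a ≠ 1 ∧ a * a = 1}, hε, card_inv, ?_⟩
  -- the value of the summand depends on `π y` only
  have hval : ∀ y : E, ell lam (y * y) = if π y = 1 then 1 else if π y * π y = 1 then w else 0 := by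
    intro y
    split_ifs with h3 h4
    · have hy : y ∈ Z := (hmem y).2 h3
      rw [ell_of_mem lam (Z.mul_mem hy hy)]
      have h5 : (⟨y * y, Z.mul_mem hy hy⟩ : Z) = ⟨y, hy⟩ * ⟨y, hy⟩ := rfl
      rw [h5, map_mul, h2, inv_one, Units.val_one]
    · obtain ⟨c, hc⟩ := isConj_iff.1 (conj_inv h3 h4)
      obtain ⟨c, rfl⟩ := hs c
      have hu : y * (c * y₀ * c⁻¹)⁻¹ ∈ Z := by
        rw [hmem, map_mul, map_inv, map_mul, map_mul, map_inv, hy₀, hc, mul_inv_cancel]
      set u := y * (c * y₀ * c⁻¹)⁻¹ with hudef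
      have hy : y = u * (c * y₀ * c⁻¹) := by rw [hudef]; group
      have huc := mem_center_iff.1 (h.cen hu)
      have h0c := mem_center_iff.1 (h.cen hy0)
      have hsq : y * y = u * u * (y₀ * y₀) := by
        rw [hy]
        calc u * (c * y₀ * c⁻¹) * (u * (c * y₀ * c⁻¹)) = u * ((c * y₀ * c⁻¹) * u) * (c * y₀ * c⁻¹) := by group
          _ = u * u * (c * (y₀ * y₀) * c⁻¹) := by rw [huc]; group
          _ = u * u * (y₀ * y₀) := by rw [h0c c]; group
      have hsqZ : y * y ∈ Z := by rw [hsq]; exact Z.mul_mem (Z.mul_mem hu hu) hy0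
      rw [ell_of_mem lam hsqZ]
      have h5 : (⟨y * y, hsqZ⟩ : Z) = ⟨u, hu⟩ * ⟨u, hu⟩ * ⟨y₀ * y₀, hy0⟩ := Subtype.ext hsq
      rw [h5, map_mul, map_mul, h2, one_mul]
    · apply ell_of_notMem
      rw [hmem, map_mul]
      exact h4
  have hfib : ∀ a : PSL3, (Finset.univ.filter fun y : E => π y = a).card = Nat.card Z := by
    intro a
    obtain ⟨b, rfl⟩ := hs a
    rw [← Fintype.card_subtype, ← Nat.card_eq_fintype_card]
    refine Nat.card_congr ⟨fun y => ⟨y.1 * b⁻¹, by rw [hmem, map_mul, map_inv, y.2, mul_inv_cancel]⟩,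
      fun z => ⟨z.1 * b, by rw [map_mul, (hmem z.1).1 z.2, one_mul]⟩, fun y => by ext; simp, fun z => by ext; simp⟩
  have hsum : ∀ f : PSL3 → ℂ, ∑ y : E, f (π y) = (Nat.card Z : ℂ) * ∑ a : PSL3, f a := by
    intro f
    rw [← Finset.sum_fiberwise Finset.univ π, Finset.mul_sum]
    refine Finset.sum_congr rfl fun a _ => ?_
    rw [Finset.sum_congr rfl (fun y hy => by rw [(Finset.mem_filter.1 hy).2] :
      ∀ y ∈ Finset.univ.filter (fun y : E => π y = a), f (π y) = f a), Finset.sum_const, hfib, nsmul_eq_mul]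
  rw [Finset.sum_congr rfl fun y _ => hval y, hsum fun a => if a = 1 then 1 else if a * a = 1 then w else 0]
  congr 1
  rw [Nat.card_eq_fintype_card, Fintype.card_subtype, Finset.card_filter, ← hεw]
  push_cast
  rw [Finset.mul_sum]
  have h6 : (1 : ℂ) = ∑ a : PSL3, if a = 1 then 1 else 0 := by
    rw [Finset.sum_ite_eq' Finset.univ (1 : PSL3), if_pos (Finset.mem_univ _)]
  conv_rhs => rw [h6]
  rw [← Finset.sum_add_distrib]
  refine Finset.sum_congr rfl fun a _ => ?_
  by_cases h3 : a = 1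
  · simp [h3]
  · by_cases h4 : a * a = 1
    · simp [h3, h4]
    · simp [h3, h4]

/-- **The table over a linear character of order two.** -/
theorem table_two [Finite E] [Fintype (IrrCharacter E)] (h : Hyp E Z) {lam : Z →* ℂˣ} (hl : lam ≠ 1)
    (h2 : ∀ z, lam z * lam z = 1) : degs lam = {10, 10, 28, 28, 36, 64, 70, 90} := by
  classical
  have := Fintype.ofFinite E
  obtain ⟨ε, I, hε, hI, hsum⟩ := sum_ell h h2
  have hZ0 : (Nat.card Z : ℂ) ≠ 0 := by exact_mod_cast Nat.card_pos.ne'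
  have h3 := fs_over h.cen lam
  rw [hsum] at h3
  have h4 : ((∑ χ ∈ mem lam, ind χ * (charDegree (χ : E → ℂ) : ℤ) : ℤ) : ℂ) = ((1 + ε * I : ℤ) : ℂ) := by
    push_cast
    exact mul_left_cancel₀ hZ0 h3
  have h5 : ∑ χ ∈ mem lam, ind χ * (charDegree (χ : E → ℂ) : ℤ) = 1 + ε * I := by exact_mod_cast h4
  obtain ⟨z, hz⟩ := exists_order h (p := 7) (by norm_num) (by norm_num)
  obtain ⟨e, f, he, hf, hne, hd, hd7, hval, hinv, -, -⟩ := pair_seven h lam hz
  have hie : ind e = 0 := by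
    rw [(ind_spec e).2.2]
    refine ⟨z, fun hre => hval ?_⟩
    rw [← hinv, isCharacter_apply_inv (isIrr_isCharacter e.2), Complex.conj_eq_iff_im.2 hre]
  have hif : ind f = 0 := by
    rw [(ind_spec f).2.2]
    refine ⟨z, fun hre => hval ?_⟩
    have h6 : (e : E → ℂ) z⁻¹ = (f : E → ℂ) z := hinv
    rw [isCharacter_apply_inv (isIrr_isCharacter e.2)] at h6
    have h7 : conj ((f : E → ℂ) z) = (f : E → ℂ) z := Complex.conj_eq_iff_im.2 hre
    rw [← h6, Complex.conj_conj] at h7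
    rw [← h6]
    exact h7
  have habs : |∑ χ ∈ mem lam, ind χ * (charDegree (χ : E → ℂ) : ℤ)| ≤
      ∑ χ ∈ (mem lam).erase e, if χ = f then 0 else (charDegree (χ : E → ℂ) : ℤ) := by
    rw [← Finset.add_sum_erase _ _ (mem_mem.2 he), hie, zero_mul, zero_add]
    refine (Finset.abs_sum_le_sum_abs _ _).trans (Finset.sum_le_sum fun χ _ => ?_)
    split_ifs with h6
    · rw [h6, hif, zero_mul, abs_zero]
    · rw [abs_mul, Nat.abs_cast]
      have h7 : |ind χ| ≤ 1 := by
        rcases (ind_spec χ).1 with h8 | h8 | h8 <;> rw [h8] <;> norm_num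
      nlinarith [Int.natCast_nonneg (charDegree (χ : E → ℂ))]
  have htot : (∑ χ ∈ (mem lam).erase e, if χ = f then 0 else (charDegree (χ : E → ℂ) : ℤ)) =
      ((degs lam).sum : ℤ) - 2 * (charDegree (e : E → ℂ) : ℤ) := by
    have h6 : ((degs lam).sum : ℤ) = ∑ χ ∈ mem lam, (charDegree (χ : E → ℂ) : ℤ) := by
      unfold degs
      rw [Finset.sum_map_val]
      push_cast
      rfl
    have h8 := Finset.add_sum_erase (mem lam) (fun χ : IrrCharacter E => (charDegree (χ : E → ℂ) : ℤ)) (mem_mem.2 he)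
    have hfe : f ∈ (mem lam).erase e := Finset.mem_erase.2 ⟨hne.symm, mem_mem.2 hf⟩
    have h9 := Finset.add_sum_erase ((mem lam).erase e) (fun χ : IrrCharacter E => (charDegree (χ : E → ℂ) : ℤ)) hfe
    have h10 := Finset.add_sum_erase ((mem lam).erase e)
      (fun χ : IrrCharacter E => if χ = f then 0 else (charDegree (χ : E → ℂ) : ℤ)) hfe
    have h11 : (∑ χ ∈ ((mem lam).erase e).erase f, if χ = f then (0 : ℤ) else (charDegree (χ : E → ℂ) : ℤ)) =
        ∑ χ ∈ ((mem lam).erase e).erase f, (charDegree (χ : E → ℂ) : ℤ) :=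
      Finset.sum_congr rfl fun χ hχ => by rw [if_neg (Finset.ne_of_mem_erase hχ)]
    simp only [if_true] at h10
    rw [h11] at h10
    have h12 : (charDegree (f : E → ℂ) : ℤ) = charDegree (e : E → ℂ) := by rw [hd]
    linarith
  rw [htot, h5] at habs
  have hIz : (315 : ℤ) ≤ I := by exact_mod_cast hI
  have h314 : 314 ≤ |1 + ε * (I : ℤ)| := by
    rcases hε with rfl | rfl
    · rw [one_mul]
      exact le_trans (by linarith) (le_abs_self _)
    · exact le_trans (by linarith) (neg_le_abs _)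
  have hde := mem_degs he
  rcases table_ne h hl with h6 | h6 | h6
  · exfalso
    rw [h6] at habs
    have h7 : (({8, 8, 56, 64, 80, 80} : Multiset ℕ).sum : ℤ) = 296 := by decide
    rw [h7] at habs
    have : (0 : ℤ) ≤ (charDegree (e : E → ℂ) : ℤ) := Int.natCast_nonneg _
    linarith
  · exfalso
    rw [h6] at habs hde
    have h7 : (({20, 28, 28, 36, 64, 80, 80} : Multiset ℕ).sum : ℤ) = 336 := by decide
    rw [h7] at habs
    have h8 : ∀ k ∈ ({20, 28, 28, 36, 64, 80, 80} : Multiset ℕ), (k % 7 = 3 ∨ k % 7 = 4) → k = 80 := by decide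
    have h9 := h8 _ hde hd7
    rw [h9] at habs
    push_cast at habs
    linarith
  · exact h6

end

end Cfsg.Agent.H407.TI
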