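import Cfsg.Agent.CharDeep.LinearChar
import Cfsg.Agent.Characters.Core
import Cfsg.Agent.H155.TI.Defs
import Cfsg.Agent.H407.TI.L34FS
import Cfsg.Agent.H60.LThreeFour.Final
import Cfsg.Agent.H829.GowDesc
import Cfsg.Agent.S0188
import Mathlib

/-!
# `GoalSix` and `GoalTab` of the row `PSL₃(4)` of S4819, S4820 (helper407)

`L` finite, `Z` central of order prime to 3, `L / Z ≅ PSL₃(4)`; `E = L'` is perfect, `L = E Z`, `Z ∩ E` is a 2-group
(Schur multiplier `3 × 4 × 4`), restriction is a bijection from the characters of `L` over `lam` to those of `E` over the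
restriction of `lam`.
-/

set_option autoImplicit false

namespace Cfsg.Agent.H407.TI

open Cfsg Subgroup Cfsg.Agent.Characters.Core
open scoped ComplexConjugate

universe u

section Ext

variable {L : Type u} [Group L] {Z E : Subgroup L}

/-- the restriction of `lam` to `Z ∩ E` -/
def lamE (E : Subgroup L) (lam : Z →* ℂˣ) : Z.subgroupOf E →* ℂˣ where
  toFun z := lam ⟨((z : E) : L), mem_subgroupOf.1 z.2⟩
  map_one' := by
    rw [← map_one lam]
    rfl
  map_mul' a b := by
    rw [← map_mul]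
    rfl

theorem lamE_apply (lam : Z →* ℂˣ) (z : Z.subgroupOf E) : lamE E lam z = lam ⟨((z : E) : L), mem_subgroupOf.1 z.2⟩ := rfl

/-- multiplication -/
def mulHom (hZ : Z ≤ center L) (E : Subgroup L) : E × Z →* L :=
  MonoidHom.noncommCoprod E.subtype Z.subtype fun e z => mem_center_iff.1 (hZ z.2) e

theorem mulHom_apply (hZ : Z ≤ center L) (x : E × Z) : mulHom hZ E x = x.1 * x.2 := rfl

variable (hZ : Z ≤ center L) (hE : ∀ g : L, ∃ e : E, ∃ z : Z, g = e * z) (lam : Z →* ℂˣ)

/-- the extension of a function on `E` over `lam` -/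
noncomputable def extF (η : E → ℂ) (g : L) : ℂ := η (hE g).choose * lam (hE g).choose_spec.choose

include hZ in
theorem extF_mul {η : E → ℂ} (hη : Over (Z.subgroupOf E) (lamE E lam) η) (e : E) (z : Z) :
    extF hE lam η (e * z) = η e * lam z := by
  unfold extF
  set e' := (hE (e * z)).choose with he'
  set z' := (hE (e * z)).choose_spec.choose with hz'
  have h : (e : L) * z = e' * z' := (hE (e * z)).choose_spec.choose_spec
  have h1 : ((e'⁻¹ * e : E) : L) = z' * (z : L)⁻¹ := by
    push_cast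
    rw [inv_mul_eq_iff_eq_mul, ← mul_assoc, ← h]
    group
  have h2 : e'⁻¹ * e ∈ Z.subgroupOf E := by
    rw [mem_subgroupOf, h1]
    exact Z.mul_mem z'.2 (Z.inv_mem z.2)
  have h3 := hη ⟨e'⁻¹ * e, h2⟩ e'
  have h4 : ((⟨e'⁻¹ * e, h2⟩ : Z.subgroupOf E) : E) * e' = e := by
    show e'⁻¹ * e * e' = e
    have h5 : (e'⁻¹ * e : E) * e' = e' * (e'⁻¹ * e) := by
      apply Subtype.ext
      show ((e'⁻¹ * e : E) : L) * (e' : L) = (e' : L) * ((e'⁻¹ * e : E) : L)
      rw [h1]
      exact (mem_center_iff.1 (hZ (Z.mul_mem z'.2 (Z.inv_mem z.2))) e').symm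
    rw [h5]
    group
  rw [h4, lamE_apply] at h3
  have h6 : (⟨(((⟨e'⁻¹ * e, h2⟩ : Z.subgroupOf E) : E) : L), mem_subgroupOf.1 h2⟩ : Z) = z' * z⁻¹ :=
    Subtype.ext h1
  rw [h6, map_mul, map_inv, Units.val_mul, Units.val_inv_eq_inv_val] at h3
  have h7 : (lam z : ℂ) ≠ 0 := (lam z).ne_zero
  rw [h3]
  field_simp
  rfl

include hZ in
theorem extF_coe {η : E → ℂ} (hη : Over (Z.subgroupOf E) (lamE E lam) η) (e : E) : extF hE lam η e = η e := by
  have := extF_mul hZ hE lam hη e 1
  rwa [Subgroup.coe_one, mul_one, map_one, Units.val_one, mul_one] at this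

include hZ in
theorem extF_over {η : E → ℂ} (hη : Over (Z.subgroupOf E) (lamE E lam) η) : Over Z lam (extF hE lam η) := by
  intro z g
  obtain ⟨e, z', rfl⟩ := hE g
  have h1 : (z : L) * (e * z') = e * ((z * z' : Z) : L) := by
    rw [Subgroup.coe_mul, ← mul_assoc, ← mul_assoc, mem_center_iff.1 (hZ z.2) e]
  rw [h1, extF_mul hZ hE lam hη, extF_mul hZ hE lam hη, map_mul, Units.val_mul]
  ring

include hE in
theorem mulHom_surjective : Function.Surjective (mulHom hZ E) := by
  intro g
  obtain ⟨e, z, rfl⟩ := hE g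
  exact ⟨(e, z), rfl⟩

include hZ in
theorem extF_irr [Finite L] {η : E → ℂ} (hη : Over (Z.subgroupOf E) (lamE E lam) η) (hi : IsIrrCharacter E η) :
    IsIrrCharacter L (extF hE lam η) := by
  refine H829.GowDesc.isIrr_of_comp_surj (mulHom hZ E) (mulHom_surjective hZ hE) _ ?_
  have h1 := S0188.isIrr_outer hi (CharDeep.LinearChar.isIrrCharacter_of_hom lam)
  have h2 : extF hE lam η ∘ mulHom hZ E = fun x : E × Z => η x.1 * (lam x.2 : ℂ) := by
    funext x
    exact extF_mul hZ hE lam hη x.1 x.2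
  rw [h2]
  exact h1

/-- the restriction of a function over `lam` is over `lamE` -/
theorem res_over {χ : L → ℂ} (hχ : Over Z lam χ) : Over (Z.subgroupOf E) (lamE E lam) (fun e : E => χ e) := by
  intro z e
  exact hχ ⟨((z : E) : L), mem_subgroupOf.1 z.2⟩ e

include hZ hE in
theorem res_irr [Finite L] {χ : L → ℂ} (hχ : Over Z lam χ) (hi : IsIrrCharacter L χ) :
    IsIrrCharacter E (fun e : E => χ e) := by
  classical
  have := Fintype.ofFinite E
  have := Fintype.ofFinite Z
  have := Fintype.ofFinite L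
  have h1 : IsIrrCharacter (E × Z) (χ ∘ mulHom hZ E) := isIrr_comp _ (mulHom_surjective hZ hE) hi
  have h2 : IsCharacter E (fun e : E => χ e) := isCharacter_comp E.subtype (isIrr_isCharacter hi)
  rw [isIrr_iff_classInner_self h2]
  have h3 : χ ∘ mulHom hZ E = fun x : E × Z => χ (x.1 : L) * (lam x.2 : ℂ) := by
    funext x
    show χ ((x.1 : L) * x.2) = _
    rw [mem_center_iff.1 (hZ x.2.2) x.1, mul_comm (χ _)]
    exact hχ x.2 x.1
  have h4 := classInner_irr_self h1
  rw [h3, S0188.classInner_outer _ (fun e : E => χ e) (fun z : Z => (lam z : ℂ))] at h4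
  have h5 : (fun z : Z => classInner (fun e : E => χ (e : L) * (lam z : ℂ)) (fun e : E => χ (e : L))) =
      classInner (fun e : E => χ (e : L)) (fun e : E => χ (e : L)) • (fun z : Z => (lam z : ℂ)) := by
    funext z
    have h6 : (fun e : E => χ (e : L) * (lam z : ℂ)) = (lam z : ℂ) • (fun e : E => χ (e : L)) := by
      funext e
      simp [mul_comm]
    rw [h6, classInner_smul_left, Pi.smul_apply, smul_eq_mul, mul_comm]
  have h7 := classInner_irr_self (CharDeep.LinearChar.isIrrCharacter_of_hom lam)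
  simp only at h4 h5
  rw [h5, classInner_smul_left, h7, mul_one] at h4
  exact h4

/-- **Restriction is a bijection.** -/
noncomputable def resEquiv [Finite L] :
    {η : IrrCharacter E // Over (Z.subgroupOf E) (lamE E lam) (η : E → ℂ)} ≃
      {χ : IrrCharacter L // Over Z lam (χ : L → ℂ)} where
  toFun η := ⟨⟨extF hE lam (η.1 : E → ℂ), extF_irr hZ hE lam η.2 η.1.2⟩, extF_over hZ hE lam η.2⟩
  invFun χ := ⟨⟨fun e : E => (χ.1 : L → ℂ) e, res_irr hZ hE lam χ.2 χ.1.2⟩, res_over lam χ.2⟩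
  left_inv η := by
    apply Subtype.ext
    apply Subtype.ext
    funext e
    exact extF_coe hZ hE lam η.2 e
  right_inv χ := by
    apply Subtype.ext
    apply Subtype.ext
    funext g
    obtain ⟨e, z, rfl⟩ := hE g
    show extF hE lam (fun e : E => (χ.1 : L → ℂ) e) (e * z) = (χ.1 : L → ℂ) (e * z)
    rw [extF_mul hZ hE lam (res_over lam χ.2), mem_center_iff.1 (hZ z.2) e]
    exact ((χ.2 z e).trans (mul_comm _ _)).symm

theorem resEquiv_symm [Finite L] (χ : {χ : IrrCharacter L // Over Z lam (χ : L → ℂ)}) (e : E) :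
    (((resEquiv hZ hE lam).symm χ).1 : E → ℂ) e = (χ.1 : L → ℂ) e := rfl

include hZ hE in
/-- counting -/
theorem card_res [Finite L] (P : (E → ℂ) → Prop) (Q : (L → ℂ) → Prop)
    (hPQ : ∀ χ : IrrCharacter L, Over Z lam (χ : L → ℂ) → (Q (χ : L → ℂ) ↔ P fun e : E => (χ : L → ℂ) e)) :
    Nat.card {χ : IrrCharacter L // Over Z lam (χ : L → ℂ) ∧ Q (χ : L → ℂ)} =
      Nat.card {η : IrrCharacter E // Over (Z.subgroupOf E) (lamE E lam) (η : E → ℂ) ∧ P (η : E → ℂ)} := by
  refine Nat.card_congr ⟨fun χ => ⟨⟨fun e : E => (χ.1 : L → ℂ) e, res_irr hZ hE lam χ.2.1 χ.1.2⟩,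
      res_over lam χ.2.1, (hPQ χ.1 χ.2.1).1 χ.2.2⟩, fun η => ⟨⟨extF hE lam (η.1 : E → ℂ), extF_irr hZ hE lam η.2.1 η.1.2⟩,
      extF_over hZ hE lam η.2.1, (hPQ _ (extF_over hZ hE lam η.2.1)).2 ?_⟩, fun χ => ?_, fun η => ?_⟩
  · have h1 : (fun e : E => extF hE lam (η.1 : E → ℂ) e) = (η.1 : E → ℂ) := by
      funext e
      exact extF_coe hZ hE lam η.2.1 e
    show P (fun e : E => extF hE lam (η.1 : E → ℂ) e)
    rw [h1]
    exact η.2.2
  · apply Subtype.ext
    apply Subtype.ext
    funext g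
    obtain ⟨e, z, rfl⟩ := hE g
    show extF hE lam (fun e : E => (χ.1 : L → ℂ) e) (e * z) = (χ.1 : L → ℂ) (e * z)
    rw [extF_mul hZ hE lam (res_over lam χ.2.1), mem_center_iff.1 (hZ z.2) e]
    exact ((χ.2.1 z e).trans (mul_comm _ _)).symm
  · apply Subtype.ext
    apply Subtype.ext
    funext e
    exact extF_coe hZ hE lam η.2.1 e

end Ext

/-! ### Conjugacy of elements of prime order -/

/-- elements of order `p`, `p²` not dividing the group order -/
theorem conj_of_sylow {G : Type*} [Group G] [Finite G] {p : ℕ} [hp : Fact p.Prime] (hp2 : ¬ p ^ 2 ∣ Nat.card G) {x y : G}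
    (hx : orderOf x = p) (hy : orderOf y = p) : ∃ k : ℕ, 0 < k ∧ k < p ∧ IsConj x (y ^ k) := by
  classical
  have key : ∀ {x : G}, orderOf x = p → ∃ P : Sylow p G, (P : Subgroup G) = zpowers x := by
    intro x hx
    have h1 : IsPGroup p (zpowers x) := IsPGroup.of_card (n := 1) (by rw [Nat.card_zpowers, hx, pow_one])
    obtain ⟨P, hP⟩ := h1.exists_le_sylow
    have h2 : Nat.card P = p := by
      obtain ⟨k, hk⟩ := IsPGroup.iff_card.1 P.2
      have h3 : Nat.card P ∣ Nat.card G := card_subgroup_dvd_card _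
      have h4 : p ≤ Nat.card P := by
        have := Nat.le_of_dvd Nat.card_pos (Subgroup.card_dvd_of_le hP)
        rwa [Nat.card_zpowers, hx] at this
      have h5 : k ≤ 1 := by
        by_contra hk2
        exact hp2 (((pow_dvd_pow p (by omega : 2 ≤ k)).trans (hk ▸ dvd_rfl)).trans h3)
      interval_cases k
      · rw [pow_zero] at hk
        have := hp.out.one_lt
        omega
      · rw [hk, pow_one]
    exact ⟨P, (eq_of_le_of_card_ge hP (by rw [h2, Nat.card_zpowers, hx])).symm⟩
  obtain ⟨P, hP⟩ := key hx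
  obtain ⟨Q, hQ⟩ := key hy
  obtain ⟨g, hg⟩ := MulAction.exists_smul_eq G P Q
  have h1 : g * x * g⁻¹ ∈ zpowers y := by
    rw [← hQ, ← hg]
    have h2 : x ∈ (P : Subgroup G) := by rw [hP]; exact mem_zpowers x
    rw [Sylow.coe_subgroup_smul]
    exact ⟨x, h2, rfl⟩
  obtain ⟨k, hk⟩ := (mem_zpowers_iff_mem_range_orderOf.1 h1 |> Finset.mem_image.1)
  rw [Finset.mem_range, hy] at hk
  refine ⟨k, Nat.pos_of_ne_zero ?_, hk.1, isConj_iff.2 ⟨g, hk.2.symm⟩⟩
  rintro rfl
  have h3 := hk.2
  rw [pow_zero] at h3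
  have h4 : x = 1 := by
    have h5 : x = g⁻¹ * (g * x * g⁻¹) * g := by group
    rw [h5, ← h3]
    group
  rw [h4, orderOf_one] at hx
  exact hp.out.one_lt.ne hx

theorem isConj_pow {G : Type*} [Group G] {x y : G} (h : IsConj x y) (k : ℕ) : IsConj (x ^ k) (y ^ k) := by
  obtain ⟨c, rfl⟩ := isConj_iff.1 h
  exact isConj_iff.2 ⟨c, (conj_pow).symm⟩

section HypConj

open Cfsg.Agent.SporadicA.FieldFour Cfsg.Agent.ONType.Psl Cfsg.Agent.ONType.PslCard
open Cfsg.Agent.CpAut.SmallP.PslFour (finite_PSL3)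

variable {E : Type u} [Group E] {Z : Subgroup E}

theorem conj_five_cases [Finite E] (h : Hyp E Z) {y y' : E} (hy : orderOf y = 5) (hy' : orderOf y' = 5) :
    IsConj y y' ∨ IsConj y (y' ^ 2) := by
  obtain ⟨π, hs, hk⟩ := h.quo
  have hf := finite_PSL3
  have : Fact (Nat.Prime 5) := ⟨by norm_num⟩
  have hodd : Odd (orderOf y) := by rw [hy]; decide
  have hodd' : Odd (orderOf y') := by rw [hy']; decide
  obtain ⟨k, hk0, hk5, hc⟩ := conj_of_sylow (p := 5) (x := π y) (y := π y') (by rw [card_PSL3]; norm_num)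
    (by rw [order_odd h hk hodd, hy]) (by rw [order_odd h hk hodd', hy'])
  rw [← map_pow, conj_odd h hs hk hodd (odd_pow hodd' k)] at hc
  have h1 := (conj_five h hy').1
  have h5 : y' ^ 5 = 1 := by rw [← hy', pow_orderOf_eq_one]
  interval_cases k
  · left; rwa [pow_one] at hc
  · exact Or.inr hc
  · right
    have h2 := isConj_pow h1 2
    rw [← pow_mul, show y' ^ (4 * 2) = y' ^ 3 by rw [show 4 * 2 = 3 + 5 by norm_num, pow_add, h5, mul_one]] at h2
    exact hc.trans h2.symm
  · exact Or.inl (hc.trans h1.symm)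

theorem conj_seven_cases [Finite E] (h : Hyp E Z) {y y' : E} (hy : orderOf y = 7) (hy' : orderOf y' = 7) :
    IsConj y y' ∨ IsConj y y'⁻¹ := by
  obtain ⟨π, hs, hk⟩ := h.quo
  have hf := finite_PSL3
  have : Fact (Nat.Prime 7) := ⟨by norm_num⟩
  have hodd : Odd (orderOf y) := by rw [hy]; decide
  have hodd' : Odd (orderOf y') := by rw [hy']; decide
  obtain ⟨k, hk0, hk7, hc⟩ := conj_of_sylow (p := 7) (x := π y) (y := π y') (by rw [card_PSL3]; norm_num)
    (by rw [order_odd h hk hodd, hy]) (by rw [order_odd h hk hodd', hy'])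
  rw [← map_pow, conj_odd h hs hk hodd (odd_pow hodd' k)] at hc
  obtain ⟨h1, h2, -⟩ := conj_seven h hy'
  have h7 : y' ^ 7 = 1 := by rw [← hy', pow_orderOf_eq_one]
  have h6 : y'⁻¹ = y' ^ 6 := by
    rw [inv_eq_iff_mul_eq_one, ← pow_succ', h7]
  rw [h6]
  interval_cases k
  · left; rwa [pow_one] at hc
  · exact Or.inl (hc.trans h1.symm)
  · right
    have h3 := isConj_pow h2 6
    rw [← pow_mul, show y' ^ (4 * 6) = y' ^ 3 by rw [show 4 * 6 = 3 + 7 * 3 by norm_num, pow_add, pow_mul, h7, one_pow,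
      mul_one]] at h3
    exact hc.trans h3.symm
  · exact Or.inl (hc.trans h2.symm)
  · right
    have h3 := isConj_pow h1 6
    rw [← pow_mul, show y' ^ (2 * 6) = y' ^ 5 by rw [show 2 * 6 = 5 + 7 by norm_num, pow_add, h7,
      mul_one]] at h3
    exact hc.trans h3.symm
  · exact Or.inr hc

/-- a pair of members is determined by a property of the degrees which holds twice in each table -/
theorem pair_unique [Finite E] (h : Hyp E Z) {lam : Z →* ℂˣ} (P : ℕ → Prop) [DecidablePred P]
    (h2 : ∀ T ∈ tabs, T.countP P = 2) {χ χ' η : IrrCharacter E} (hne : χ ≠ χ') (h3 : Over Z lam (χ : E → ℂ))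
    (h4 : Over Z lam (χ' : E → ℂ)) (h5 : Over Z lam (η : E → ℂ)) (h6 : P (charDegree (χ : E → ℂ)))
    (h7 : P (charDegree (χ' : E → ℂ))) (h8 : P (charDegree (η : E → ℂ))) : η = χ ∨ η = χ' := by
  classical
  have := finite_irr (G := E)
  have := Fintype.ofFinite (IrrCharacter E)
  by_contra hno
  push Not at hno
  have h9 := card_of_tabs h lam P h2
  rw [Nat.card_eq_fintype_card, Fintype.card_subtype] at h9
  have h10 : ({η, χ, χ'} : Finset (IrrCharacter E)) ⊆
      Finset.univ.filter fun χ : IrrCharacter E => Over Z lam (χ : E → ℂ) ∧ P (charDegree (χ : E → ℂ)) := by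
    intro ψ hψ
    simp only [Finset.mem_insert, Finset.mem_singleton] at hψ
    rw [Finset.mem_filter]
    rcases hψ with rfl | rfl | rfl
    · exact ⟨Finset.mem_univ _, h5, h8⟩
    · exact ⟨Finset.mem_univ _, h3, h6⟩
    · exact ⟨Finset.mem_univ _, h4, h7⟩
  have h11 := Finset.card_le_card h10
  rw [h9, Finset.card_insert_of_notMem (by
    simp only [Finset.mem_insert, Finset.mem_singleton, not_or]; exact hno),
    Finset.card_insert_of_notMem (by simpa using hne), Finset.card_singleton] at h11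
  omega

theorem five_ne [Finite E] (h : Hyp E Z) (lam : Z →* ℂˣ) {y : E} (hy : orderOf y = 5) {η : IrrCharacter E}
    (hη : Over Z lam (η : E → ℂ)) (hd : charDegree (η : E → ℂ) % 5 = 2 ∨ charDegree (η : E → ℂ) % 5 = 3) :
    (η : E → ℂ) (y ^ 2) ≠ (η : E → ℂ) y := by
  obtain ⟨χ, χ', h1, h2, h3, h4, h5, h6, h7, h8, -⟩ := pair_five h lam hy
  rcases pair_unique h (fun d => d % 5 = 2 ∨ d % 5 = 3) (by decide +kernel) h3 h1 h2 hη h5 (by rwa [← h4]) hd with
    rfl | rfl
  · rw [h7]; exact h6.symm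
  · rw [h8]; exact h6

theorem seven_ne [Finite E] (h : Hyp E Z) (lam : Z →* ℂˣ) {y : E} (hy : orderOf y = 7) {η : IrrCharacter E}
    (hη : Over Z lam (η : E → ℂ)) (hd : charDegree (η : E → ℂ) % 7 = 3 ∨ charDegree (η : E → ℂ) % 7 = 4) :
    (η : E → ℂ) y⁻¹ ≠ (η : E → ℂ) y := by
  obtain ⟨χ, χ', h1, h2, h3, h4, h5, h6, h7, h8, -⟩ := pair_seven h lam hy
  rcases pair_unique h (fun d => d % 7 = 3 ∨ d % 7 = 4) (by decide +kernel) h3 h1 h2 hη h5 (by rwa [← h4]) hd with
    rfl | rfl
  · rw [h7]; exact h6.symm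
  · rw [h8]; exact h6

end HypConj

/-! ### The level of `L` -/

section Level

open Cfsg.Agent.SporadicA.FieldFour Cfsg.Agent.ONType.Psl Cfsg.Agent.ONType.PslCard
open Cfsg.Agent.CpAut.SmallP.PslFour (finite_PSL3)

variable {L : Type u} [Group L] {Z : Subgroup L} [Z.Normal]

theorem exists_pi (h : H155.TI.LSit L Z) : ∃ π : L →* PSL3, Function.Surjective π ∧ π.ker = Z := by
  obtain ⟨F, _, _, hF, ⟨e⟩⟩ := h.iso
  obtain ⟨f⟩ := nonempty_psl_equiv (n := Fin 3) F hF
  refine ⟨((e.trans f.symm).toMonoidHom).comp (QuotientGroup.mk' Z),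
    (e.trans f.symm).surjective.comp (QuotientGroup.mk'_surjective Z), ?_⟩
  ext g
  rw [MonoidHom.mem_ker]
  show (e.trans f.symm) (QuotientGroup.mk' Z g) = 1 ↔ _
  rw [map_eq_one_iff _ (e.trans f.symm).injective]
  exact QuotientGroup.eq_one_iff g

theorem decomp (h : H155.TI.LSit L Z) (g : L) : ∃ e : commutator L, ∃ z : Z, g = e * z := by
  obtain ⟨π, hs, hk⟩ := exists_pi h
  obtain ⟨-, h2⟩ := H487.perfect_commutator H60.LThreeFour.isPerfect_PSL3 hs (by rw [hk]; exact h.cen)
  obtain ⟨e, he⟩ := h2 (π g)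
  have h3 : (e : L)⁻¹ * g ∈ Z := by
    rw [← hk, MonoidHom.mem_ker, map_mul, map_inv]
    have h4 : π (e : L) = π g := he
    rw [h4, inv_mul_cancel]
  exact ⟨e, ⟨_, h3⟩, by simp⟩

theorem hyp_comm [Finite L] (h : H155.TI.LSit L Z) : Hyp (commutator L) (Z.subgroupOf (commutator L)) := by
  obtain ⟨π, hs, hk⟩ := exists_pi h
  obtain ⟨h1, h2⟩ := H487.perfect_commutator H60.LThreeFour.isPerfect_PSL3 hs (by rw [hk]; exact h.cen)
  refine ⟨h1.commutator_eq_top, ?_, ?_, π.comp (commutator L).subtype, h2, ?_⟩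
  · intro z hz
    rw [mem_center_iff]
    intro g
    exact Subtype.ext (mem_center_iff.1 (h.cen (mem_subgroupOf.1 hz)) g)
  · obtain ⟨f, hf⟩ := H487.HasSchurMultiplier.exists_surj H60.LThreeFour.hasMultiplier hs (by rw [hk]; exact h.cen)
    intro z
    have hz1 : ((z : commutator L) : L) ∈ Z := mem_subgroupOf.1 z.2
    obtain ⟨a, ha⟩ := hf ⟨((z : commutator L) : L), mem_inf.2 ⟨by rw [hk]; exact hz1, (z : commutator L).2⟩⟩
    have ha12 : a ^ 12 = 1 := by
      have h0 : ∀ a : Multiplicative (ZMod 3 × ZMod 4 × ZMod 4), a ^ 12 = 1 := by decide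
      exact h0 a
    have h3 : ((z : commutator L) : L) ^ 12 = 1 := by
      have h4 := congrArg f ha12
      rw [map_pow, ha, map_one] at h4
      have h5 := congrArg Subtype.val h4
      simpa using h5
    have h6 : orderOf ((z : commutator L) : L) ∣ 12 := orderOf_dvd_of_pow_eq_one h3
    have h7 : orderOf ((z : commutator L) : L) ∣ Nat.card Z := by
      have := orderOf_dvd_natCard (⟨_, hz1⟩ : Z)
      rwa [← Subgroup.orderOf_coe] at this
    have h8 : Nat.Coprime (orderOf ((z : commutator L) : L)) 3 := by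
      rw [Nat.coprime_comm, Nat.Prime.coprime_iff_not_dvd Nat.prime_three]
      exact fun h9 => h.z3 (h9.trans h7)
    have h9 : orderOf ((z : commutator L) : L) ∣ 2 ^ 2 :=
      Nat.Coprime.dvd_of_dvd_mul_right h8 (by simpa using h6)
    refine ⟨2, ?_⟩
    apply Subtype.ext
    apply Subtype.ext
    push_cast
    exact orderOf_dvd_iff_pow_eq_one.1 h9
  · ext z
    rw [MonoidHom.mem_ker, mem_subgroupOf, ← hk, MonoidHom.mem_ker]
    rfl

/-- the degree of the restriction -/
theorem charDegree_res {E : Subgroup L} {χ : L → ℂ} (hi : IsIrrCharacter L χ) :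
    charDegree (fun e : E => χ e) = charDegree χ :=
  H669.Basic.charDegree_of_natCast (χ := fun e : E => χ e) (H669.Basic.charDegree_eq hi)

theorem mem_comm_of_order [Finite L] (h : H155.TI.LSit L Z) {x : L} (hx : orderOf x = 3) : x ∈ commutator L := by
  obtain ⟨e, z, hg⟩ := decomp h x
  have h1 : x ^ Nat.card Z ∈ commutator L := by
    have h2 : Commute (e : L) (z : L) := mem_center_iff.1 (h.cen z.2) e
    have h3 : (z : L) ^ Nat.card Z = 1 := by
      have := pow_card_eq_one' (x := z)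
      exact_mod_cast congrArg Subtype.val this
    rw [hg, h2.mul_pow, h3, mul_one]
    exact pow_mem e.2 _
  have h4 : Nat.card Z % 3 = 1 ∨ Nat.card Z % 3 = 2 := by have := h.z3; omega
  have h5 : x ^ 3 = 1 := by rw [← hx, pow_orderOf_eq_one]
  have h6 : x ^ Nat.card Z = x ^ (Nat.card Z % 3) := by
    conv_lhs => rw [← Nat.mod_add_div (Nat.card Z) 3, pow_add, pow_mul, h5, one_pow, mul_one]
  rw [h6] at h1
  rcases h4 with h4 | h4
  · rwa [h4, pow_one] at h1
  · rw [h4] at h1
    have h7 := pow_mem h1 2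
    rwa [← pow_mul, show 2 * 2 = 3 + 1 by norm_num, pow_add, h5, one_mul, pow_one] at h7

/-- **GoalSix** -/
theorem goalSix : H155.TI.GoalSix.{u} := by
  intro L _ _ Z _ h lam x hx
  have hx' := mem_comm_of_order h hx
  have hE := decomp h
  have hyp := hyp_comm h
  have ho : orderOf (⟨x, hx'⟩ : commutator L) = 3 := by rw [← Subgroup.orderOf_coe]; exact hx
  refine ⟨⟨?_, ?_, ?_⟩, ?_⟩
  · intro η hη
    obtain ⟨v, h1, -, h2⟩ := value_three hyp ho (χ := ⟨fun e : commutator L => (η : L → ℂ) e,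
      res_irr h.cen hE lam hη η.2⟩) (res_over lam hη)
    refine ⟨v, h1, ?_⟩
    rcases h2 with rfl | rfl | rfl | rfl | rfl <;> decide
  · exact (card_res h.cen hE lam (fun f => f ⟨x, hx'⟩ = 1 ∨ f ⟨x, hx'⟩ = -1) (fun f => f x = 1 ∨ f x = -1)
      fun _ _ => Iff.rfl).trans (card_val_one hyp _ ho)
  · exact (card_res h.cen hE lam (fun f => f ⟨x, hx'⟩ = 2 ∨ f ⟨x, hx'⟩ = -2) (fun f => f x = 2 ∨ f x = -2)
      fun _ _ => Iff.rfl).trans (card_val_two hyp _ ho)
  · intro η hη
    have h1 := value_three_zero hyp ho (χ := ⟨fun e : commutator L => (η : L → ℂ) e,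
      res_irr h.cen hE lam hη η.2⟩) (res_over lam hη)
    rw [← charDegree_res (E := commutator L) η.2]
    exact h1

theorem dg_eq [Finite L] [Fintype (IrrCharacter (commutator L))] (h : H155.TI.LSit L Z) (lam : Z →* ℂˣ) (n : ℕ) :
    H155.TI.dg Z.subtype lam n = (degs (lamE (commutator L) lam)).countP (fun d => d = n) := by
  rw [← card_filter]
  refine card_res h.cen (decomp h) lam (fun f => charDegree f = n) (fun f => charDegree f = n) ?_
  intro χ _
  rw [charDegree_res χ.2]

theorem mb_eq [Finite L] [Fintype (IrrCharacter (commutator L))] (h : H155.TI.LSit L Z) (lam : Z →* ℂˣ) :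
    H155.TI.mb Z.subtype lam = (degs (lamE (commutator L) lam)).countP (fun _ => True) := by
  rw [← card_filter, ← card_res h.cen (decomp h) lam (fun _ => True) (fun _ => True) fun _ _ => Iff.rfl]
  refine Nat.card_congr (Equiv.subtypeEquivRight fun χ => ?_)
  exact ⟨fun h1 => ⟨h1, trivial⟩, fun h1 => h1.1⟩

omit [Z.Normal] in
theorem lamE_eq_one {E : Subgroup L} {lam : Z →* ℂˣ} :
    lamE E lam = 1 ↔ ∀ z : Z, (z : L) ∈ E → lam z = 1 := by
  constructor
  · intro h z hz
    have h1 : lamE E lam ⟨⟨z, hz⟩, mem_subgroupOf.2 z.2⟩ = 1 := by rw [h]; rfl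
    exact h1
  · intro h
    ext z
    have := h ⟨((z : E) : L), mem_subgroupOf.1 z.2⟩ (z : E).2
    rw [lamE_apply, this]
    rfl

/-- **GoalTab** -/
theorem goalTab : H155.TI.GoalTab.{u} := by
  intro L _ _ Z _ h lam
  have := finite_irr (G := commutator L)
  have := Fintype.ofFinite (IrrCharacter (commutator L))
  have hyp := hyp_comm h
  have hE := decomp h
  refine ⟨?_, ?_, ?_, ?_, ?_⟩
  · intro h1
    have h2 := lamE_eq_one.2 h1
    have h3 : degs (lamE (commutator L) lam) = {1, 20, 35, 35, 35, 45, 45, 63, 63, 64} := by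
      rw [h2]; exact table_one hyp
    unfold H155.TI.TabOne
    simp only [mb_eq h, dg_eq h, h3]
    decide +kernel
  · intro h1
    have h2 : lamE (commutator L) lam ≠ 1 := fun h2 => h1 (lamE_eq_one.1 h2)
    unfold H155.TI.TabT0 H155.TI.TabT1 H155.TI.TabT2
    rcases table_ne hyp h2 with h3 | h3 | h3
    · left
      simp only [mb_eq h, dg_eq h, h3]
      decide +kernel
    · right; left
      simp only [mb_eq h, dg_eq h, h3]
      decide +kernel
    · right; right
      simp only [mb_eq h, dg_eq h, h3]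
      decide +kernel
  · intro h1 h2
    have h3 : lamE (commutator L) lam ≠ 1 := fun h3 => h2 (lamE_eq_one.1 h3)
    have h4 := table_two hyp h3 fun z => by
      have := h1 ⟨((z : commutator L) : L), mem_subgroupOf.1 z.2⟩ (z : commutator L).2
      rw [lamE_apply, ← sq, this]
    unfold H155.TI.TabT2
    simp only [mb_eq h, dg_eq h, h4]
    decide +kernel
  · intro y5 hy5 ho
    have ho' : orderOf (⟨y5, hy5⟩ : commutator L) = 5 := by rw [← Subgroup.orderOf_coe]; exact ho
    refine ⟨fun η hη hd => ?_, fun y hy hyo => ?_⟩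
    · have h1 := five_ne hyp (lamE (commutator L) lam) ho' (η := ⟨fun e : commutator L => (η : L → ℂ) e,
        res_irr h.cen hE lam hη η.2⟩) (res_over lam hη) (by
        show charDegree (fun e : commutator L => (η : L → ℂ) e) % 5 = 2 ∨
          charDegree (fun e : commutator L => (η : L → ℂ) e) % 5 = 3
        rw [charDegree_res η.2]
        omega)
      exact h1
    · have hyo' : orderOf (⟨y, hy⟩ : commutator L) = 5 := by rw [← Subgroup.orderOf_coe]; exact hyo
      rcases conj_five_cases hyp hyo' ho' with h1 | h1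
      · left
        obtain ⟨c, hc⟩ := isConj_iff.1 h1
        exact isConj_iff.2 ⟨c, congrArg Subtype.val hc⟩
      · right
        obtain ⟨c, hc⟩ := isConj_iff.1 h1
        exact isConj_iff.2 ⟨c, congrArg Subtype.val hc⟩
  · intro y7 hy7 ho
    have ho' : orderOf (⟨y7, hy7⟩ : commutator L) = 7 := by rw [← Subgroup.orderOf_coe]; exact ho
    refine ⟨fun η hη hd => ?_, fun y hy hyo => ?_⟩
    · have h1 := seven_ne hyp (lamE (commutator L) lam) ho' (η := ⟨fun e : commutator L => (η : L → ℂ) e,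
        res_irr h.cen hE lam hη η.2⟩) (res_over lam hη) (by
        show charDegree (fun e : commutator L => (η : L → ℂ) e) % 7 = 3 ∨
          charDegree (fun e : commutator L => (η : L → ℂ) e) % 7 = 4
        rw [charDegree_res η.2]
        omega)
      exact h1
    · have hyo' : orderOf (⟨y, hy⟩ : commutator L) = 7 := by rw [← Subgroup.orderOf_coe]; exact hyo
      rcases conj_seven_cases hyp hyo' ho' with h1 | h1
      · left
        obtain ⟨c, hc⟩ := isConj_iff.1 h1
        exact isConj_iff.2 ⟨c, congrArg Subtype.val hc⟩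
      · right
        obtain ⟨c, hc⟩ := isConj_iff.1 h1
        exact isConj_iff.2 ⟨c, congrArg Subtype.val hc⟩

end Level

end Cfsg.Agent.H407.TI
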